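import Mathlib

/-!
Real nonnegative solutions of integral linear systems are positive combinations of independent integral ones.
-/

set_option autoImplicit false

open Finset

namespace Groth.Agent.FanLib

theorem apply_eq_sum {N M : ℕ} (A : (Fin N → ℤ) →ₗ[ℤ] (Fin M → ℤ)) (u : Fin N → ℤ) (j : Fin M) :
    A u j = ∑ i, u i * A (Pi.single i 1) j := by
  have e : u = ∑ i, u i • Pi.single i (1 : ℤ) := by
    funext k; simp [Finset.sum_apply, Pi.single_apply]
  conv_lhs => rw [e, map_sum, Finset.sum_apply]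
  exact Finset.sum_congr rfl fun i _ => by rw [map_zsmul]; simp

theorem exists_rat_coords {N : ℕ} (w : Fin N → ℝ) :
    ∃ (d : ℕ) (r₀ : Fin d → ℝ) (q : Fin N → Fin d → ℚ), (∀ i, w i = ∑ k, (q i k : ℝ) * r₀ k) ∧
      ∀ a : Fin N → ℚ, ∑ i, (a i : ℝ) * w i = 0 → ∀ k, ∑ i, a i * q i k = 0 := by
  let V := Submodule.span ℚ (Set.range w)
  haveI : FiniteDimensional ℚ V := FiniteDimensional.span_of_finite ℚ (Set.finite_range w)
  let b := Module.finBasis ℚ V
  have hw : ∀ i, w i ∈ V := fun i => Submodule.subset_span ⟨i, rfl⟩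
  refine ⟨Module.finrank ℚ V, fun k => (b k : ℝ), fun i k => b.repr ⟨w i, hw i⟩ k, fun i => ?_, fun a ha k => ?_⟩
  · conv_lhs => rw [show w i = ((⟨w i, hw i⟩ : V) : ℝ) from rfl, ← b.sum_repr ⟨w i, hw i⟩]
    rw [Submodule.coe_sum]
    exact Finset.sum_congr rfl fun k _ => by rw [Submodule.coe_smul, Rat.smul_def]
  · have h : ∑ i, a i • (⟨w i, hw i⟩ : V) = 0 := Subtype.ext (by
      rw [Submodule.coe_sum, Submodule.coe_zero, ← ha]
      exact Finset.sum_congr rfl fun i _ => by rw [Submodule.coe_smul, Rat.smul_def])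
    have := congrArg (fun v => b.repr v k) h
    simp only [map_sum, LinearEquiv.map_smul, Finsupp.finsetSum_apply, Finsupp.smul_apply, smul_eq_mul, map_zero,
      Finsupp.coe_zero, Pi.zero_apply] at this
    exact this

theorem exists_int_pos {N M : ℕ} (A : (Fin N → ℤ) →ₗ[ℤ] (Fin M → ℤ)) (w : Fin N → ℝ)
    (hA : ∀ j, ∑ i, (A (Pi.single i 1) j : ℝ) * w i = 0) :
    ∃ u : Fin N → ℤ, A u = 0 ∧ (∀ i, w i = 0 → u i = 0) ∧ ∀ i, 0 < w i → 0 < u i := by
  obtain ⟨d, r₀, q, hq, hrel⟩ := exists_rat_coords w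
  let L : (Fin d → ℝ) → Fin N → ℝ := fun r i => ∑ k, (q i k : ℝ) * r k
  have hL : ∀ i, Continuous fun r => L r i := fun i => by fun_prop
  let O : Set (Fin d → ℝ) := ⋂ i ∈ {i | 0 < w i}, {r | 0 < L r i}
  have hO : IsOpen O := Set.Finite.isOpen_biInter (Set.toFinite _) fun i _ => isOpen_lt continuous_const (hL i)
  have h0 : r₀ ∈ O := by
    simp only [O, Set.mem_iInter]
    exact fun i hi => by show 0 < L r₀ i; simpa [L, ← hq] using hi
  obtain ⟨r, hr⟩ := (DenseRange.piMap fun _ : Fin d => Rat.denseRange_cast (𝕜 := ℝ)).exists_mem_open hO ⟨r₀, h0⟩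
  let Q : Fin N → ℚ := fun i => ∑ k, q i k * r k
  have hQ : ∀ i, (Q i : ℝ) = L (fun k => (r k : ℝ)) i := fun i => by simp [Q, L]
  have hQA : ∀ j, ∑ i, Q i * A (Pi.single i 1) j = 0 := fun j => by
    simp only [Q, Finset.sum_mul]
    rw [Finset.sum_comm]
    refine Finset.sum_eq_zero fun k _ => ?_
    have := hrel (fun i => (A (Pi.single i 1) j : ℚ)) (by simpa using hA j) k
    rw [← zero_mul (r k), ← this, Finset.sum_mul]
    exact Finset.sum_congr rfl fun i _ => by ring
  have hQ0 : ∀ i, w i = 0 → Q i = 0 := fun i hi => by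
    refine Finset.sum_eq_zero fun k _ => ?_
    have := hrel (Pi.single i 1) (by simp [Pi.single_apply, apply_ite, hi]) k
    rw [show q i k = 0 by simpa [Pi.single_apply] using this, zero_mul]
  let D : ℕ := ∏ i, (Q i).den
  have hD : 0 < D := Finset.prod_pos fun i _ => (Q i).den_pos
  let u : Fin N → ℤ := fun i => (Q i).num * ((D / (Q i).den : ℕ) : ℤ)
  have hu : ∀ i, (u i : ℚ) = D * Q i := fun i => by
    have hd : (Q i).den ∣ D := Finset.dvd_prod_of_mem (fun i => (Q i).den) (Finset.mem_univ i)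
    simp only [u, Int.cast_mul, Int.cast_natCast]
    rw [Nat.cast_div hd (by exact_mod_cast (Q i).den_pos.ne')]
    conv_rhs => rw [← Rat.num_div_den (Q i)]
    ring
  refine ⟨u, funext fun j => ?_, fun i hi => ?_, fun i hi => ?_⟩
  · rw [apply_eq_sum]
    apply Int.cast_injective (α := ℚ)
    push_cast
    simp only [hu, mul_assoc, ← Finset.mul_sum, hQA, mul_zero]
    simp
  · have := hu i
    rw [hQ0 i hi, mul_zero] at this
    exact_mod_cast this
  · have h1 : (0 : ℝ) < (Q i : ℝ) := by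
      rw [hQ]
      exact Set.mem_iInter₂.1 hr i hi
    have h2 : (0 : ℚ) < (u i : ℚ) := by
      rw [hu]
      exact mul_pos (by exact_mod_cast hD) (by exact_mod_cast h1)
    exact_mod_cast h2

/-- the real vector of an integral one -/
def toR {N : ℕ} (u : Fin N → ℤ) : Fin N → ℝ := fun i => (u i : ℝ)

theorem exists_combination {N M : ℕ} (A : (Fin N → ℤ) →ₗ[ℤ] (Fin M → ℤ)) :
    ∀ (n : ℕ) (w : Fin N → ℝ), (Finset.univ.filter fun i => w i ≠ 0).card ≤ n → (∀ i, 0 ≤ w i) →
      (∀ j, ∑ i, (A (Pi.single i 1) j : ℝ) * w i = 0) →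
      ∃ (s : Finset (Fin N → ℤ)) (c : (Fin N → ℤ) → ℝ),
        (∀ u ∈ s, (∀ i, 0 ≤ u i) ∧ A u = 0) ∧ (∀ u ∈ s, 0 < c u) ∧ w = ∑ u ∈ s, c u • toR u := by
  classical
  intro n
  induction n with
  | zero =>
    intro w hn _ _
    refine ⟨∅, 0, by simp, by simp, ?_⟩
    rw [Finset.sum_empty]
    funext i
    by_contra h
    have : i ∈ Finset.univ.filter fun i => w i ≠ 0 := Finset.mem_filter.2 ⟨Finset.mem_univ i, h⟩
    rw [Finset.card_eq_zero.1 (Nat.le_zero.1 hn)] at this
    simp at this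
  | succ n ih =>
    intro w hn hw hA
    by_cases h0 : w = 0
    · exact ⟨∅, 0, by simp, by simp, by simp [h0]⟩
    obtain ⟨q, hqA, hq0, hqpos⟩ := exists_int_pos A w hA
    let S := Finset.univ.filter fun i => w i ≠ 0
    have hS : ∀ i ∈ S, 0 < w i := fun i hi => lt_of_le_of_ne (hw i) (Ne.symm (Finset.mem_filter.1 hi).2)
    have hne : S.Nonempty := by
      by_contra h
      exact h0 (funext fun i => by_contra fun hi => h ⟨i, Finset.mem_filter.2 ⟨Finset.mem_univ i, hi⟩⟩)
    obtain ⟨i₀, hi₀, hmin⟩ := S.exists_min_image (fun i => w i / q i) hne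
    set t : ℝ := w i₀ / q i₀ with ht
    have hq₀ : (0 : ℝ) < q i₀ := by exact_mod_cast hqpos i₀ (hS i₀ hi₀)
    have htpos : 0 < t := div_pos (hS i₀ hi₀) hq₀
    let w' : Fin N → ℝ := w - t • toR q
    have hw'0 : ∀ i, w i = 0 → w' i = 0 := fun i hi => by simp [w', toR, hi, hq0 i hi]
    have hw' : ∀ i, 0 ≤ w' i := fun i => by
      by_cases hi : w i = 0
      · rw [hw'0 i hi]
      · have hq : (0 : ℝ) < q i := by exact_mod_cast hqpos i (lt_of_le_of_ne (hw i) (Ne.symm hi))
        have := (le_div_iff₀ hq).1 (hmin i (Finset.mem_filter.2 ⟨Finset.mem_univ i, hi⟩))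
        simp only [w', Pi.sub_apply, Pi.smul_apply, smul_eq_mul, toR]
        linarith
    have hA' : ∀ j, ∑ i, (A (Pi.single i 1) j : ℝ) * w' i = 0 := fun j => by
      have hz : ∑ i, (A (Pi.single i 1) j : ℝ) * (q i : ℝ) = 0 := by
        have := congrFun hqA j
        rw [apply_eq_sum] at this
        have h2 : ((∑ i, q i * A (Pi.single i 1) j : ℤ) : ℝ) = 0 := by rw [this]; simp
        push_cast at h2
        simpa [mul_comm] using h2
      simp only [w', Pi.sub_apply, Pi.smul_apply, smul_eq_mul, toR, mul_sub, Finset.sum_sub_distrib, hA j]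
      rw [show ∑ i, (A (Pi.single i 1) j : ℝ) * (t * (q i : ℝ)) = t * ∑ i, (A (Pi.single i 1) j : ℝ) * (q i : ℝ) by
        rw [Finset.mul_sum]; exact Finset.sum_congr rfl fun i _ => by ring, hz]
      ring
    have hcard : (Finset.univ.filter fun i => w' i ≠ 0).card ≤ n := by
      refine Nat.lt_succ_iff.1 (lt_of_lt_of_le (Finset.card_lt_card ?_) hn)
      refine Finset.ssubset_iff_subset_ne.2 ⟨fun i hi => Finset.mem_filter.2 ⟨Finset.mem_univ i, fun h =>
        (Finset.mem_filter.1 hi).2 (hw'0 i h)⟩, fun h => ?_⟩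
      have : i₀ ∈ Finset.univ.filter fun i => w' i ≠ 0 := h ▸ hi₀
      refine (Finset.mem_filter.1 this).2 ?_
      simp only [w', Pi.sub_apply, Pi.smul_apply, smul_eq_mul, toR, ht]
      field_simp
      ring
    obtain ⟨s, c, hs, hc, e⟩ := ih w' hcard hw' hA'
    have hwe : w = w' + t • toR q := by simp [w']
    by_cases hqs : q ∈ s
    · refine ⟨s, Function.update c q (c q + t), hs, fun u hu => ?_, ?_⟩
      · by_cases huq : u = q
        · subst huq; simpa using add_pos (hc u hu) htpos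
        · rw [Function.update_of_ne huq]; exact hc u hu
      · rw [hwe, e, ← Finset.sum_erase_add _ _ hqs, ← Finset.sum_erase_add _ _ hqs, Function.update_self, add_smul,
          add_assoc]
        congr 1
        exact Finset.sum_congr rfl fun u hu => by rw [Function.update_of_ne (Finset.ne_of_mem_erase hu)]
    · refine ⟨insert q s, Function.update c q t, fun u hu => ?_, fun u hu => ?_, ?_⟩
      · rcases Finset.mem_insert.1 hu with rfl | hu
        · refine ⟨fun i => ?_, hqA⟩
          by_cases hi : w i = 0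
          · rw [hq0 i hi]
          · exact (hqpos i (lt_of_le_of_ne (hw i) (Ne.symm hi))).le
        · exact hs u hu
      · rcases Finset.mem_insert.1 hu with rfl | hu
        · simpa using htpos
        · rw [Function.update_of_ne (fun h : u = q => hqs (h ▸ hu))]; exact hc u hu
      · rw [hwe, e, Finset.sum_insert hqs, Function.update_self, add_comm]
        congr 1
        exact Finset.sum_congr rfl fun u hu => by rw [Function.update_of_ne (fun h : u = q => hqs (h ▸ hu))]

theorem exists_independent {N : ℕ} : ∀ (n : ℕ) (s : Finset (Fin N → ℤ)) (c : (Fin N → ℤ) → ℝ), s.card ≤ n →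
    (∀ u ∈ s, 0 < c u) → ∃ (t : Finset (Fin N → ℤ)) (d : (Fin N → ℤ) → ℝ), t ⊆ s ∧ (∀ u ∈ t, 0 < d u) ∧
      (∑ u ∈ t, d u • toR u) = ∑ u ∈ s, c u • toR u ∧ LinearIndependent ℤ (fun u : t => (u : Fin N → ℤ)) := by
  classical
  intro n
  induction n with
  | zero =>
    intro s c hs hc
    refine ⟨s, c, subset_rfl, hc, rfl, ?_⟩
    haveI : IsEmpty s := by
      rw [Finset.card_eq_zero.1 (Nat.le_zero.1 hs)]; infer_instance
    exact linearIndependent_empty_type
  | succ n ih =>
    intro s c hs hc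
    by_cases hli : LinearIndependent ℤ (fun u : s => (u : Fin N → ℤ))
    · exact ⟨s, c, subset_rfl, hc, rfl, hli⟩
    obtain ⟨g, hg, ⟨i₁, hi₁⟩⟩ := Fintype.not_linearIndependent_iff.1 hli
    wlog hpos : 0 < (g i₁) generalizing g
    · refine this (-g) (by simp only [Pi.neg_apply, neg_smul, Finset.sum_neg_distrib, hg, neg_zero]) (by simpa using hi₁) ?_
      rcases lt_trichotomy 0 (g i₁) with h | h | h
      · exact absurd h hpos
      · exact absurd h.symm hi₁
      · simpa using h
    let G : (Fin N → ℤ) → ℝ := fun u => if h : u ∈ s then (g ⟨u, h⟩ : ℝ) else 0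
    have hG : ∑ u ∈ s, G u • toR u = 0 := by
      rw [← Finset.sum_coe_sort s]
      funext i
      have := congrFun hg i
      simp only [Finset.sum_apply, Pi.smul_apply, smul_eq_mul, Pi.zero_apply] at this
      simp only [Finset.sum_apply, Pi.smul_apply, smul_eq_mul, Pi.zero_apply, G, toR]
      have h2 : ((∑ u : s, g u * (u : Fin N → ℤ) i : ℤ) : ℝ) = 0 := by rw [this]; simp
      push_cast at h2
      simpa using h2
    have hne : (s.filter fun u => 0 < G u).Nonempty := ⟨i₁, Finset.mem_filter.2 ⟨i₁.2, by simp [G, hpos]⟩⟩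
    obtain ⟨u₀, hu₀, hmin⟩ := Finset.exists_min_image _ (fun u => c u / G u) hne
    obtain ⟨hu₀s, hu₀G⟩ := Finset.mem_filter.1 hu₀
    set a := c u₀ / G u₀ with ha
    have ha0 : 0 < a := div_pos (hc u₀ hu₀s) hu₀G
    let c' : (Fin N → ℤ) → ℝ := fun u => c u - a * G u
    have hc' : ∀ u ∈ s, 0 ≤ c' u := fun u hu => by
      by_cases h : 0 < G u
      · have := (le_div_iff₀ h).1 (hmin u (Finset.mem_filter.2 ⟨hu, h⟩))
        simp only [c']; linarith
      · have := mul_nonpos_of_nonneg_of_nonpos ha0.le (not_lt.1 h)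
        have := hc u hu
        simp only [c']; linarith
    let t₁ := s.filter fun u => 0 < c' u
    have hcard : t₁.card ≤ n := by
      refine Nat.lt_succ_iff.1 (lt_of_lt_of_le (Finset.card_lt_card ?_) hs)
      refine Finset.ssubset_iff_subset_ne.2 ⟨Finset.filter_subset _ _, fun h => ?_⟩
      have := (Finset.mem_filter.1 (h ▸ hu₀s : u₀ ∈ t₁)).2
      simp only [c', ha] at this
      rw [div_mul_cancel₀ _ hu₀G.ne'] at this
      simp at this
    obtain ⟨t, d, ht, hd, he, hl⟩ := ih t₁ c' hcard fun u hu => (Finset.mem_filter.1 hu).2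
    refine ⟨t, d, ht.trans (Finset.filter_subset _ _), hd, he.trans ?_, hl⟩
    rw [Finset.sum_subset (Finset.filter_subset _ s) (fun u hu hu' => by
      rw [show c' u = 0 from le_antisymm (not_lt.1 fun h => hu' (Finset.mem_filter.2 ⟨hu, h⟩)) (hc' u hu), zero_smul])]
    simp only [c', sub_smul, mul_smul, Finset.sum_sub_distrib, ← Finset.smul_sum, hG, smul_zero, sub_zero]

/-- The main statement. -/
theorem exists_decomposition {N M : ℕ} (A : (Fin N → ℤ) →ₗ[ℤ] (Fin M → ℤ)) (w : Fin N → ℝ)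
    (hw : ∀ i, 0 ≤ w i) (hne : w ≠ 0) (hA : ∀ j, ∑ i, (A (Pi.single i 1) j : ℝ) * w i = 0) :
    ∃ (m : ℕ+) (u : Fin m → Fin N → ℤ) (c : Fin m → ℝ), (∀ l i, 0 ≤ u l i) ∧ (∀ l, A (u l) = 0) ∧
      LinearIndependent ℤ u ∧ (∀ l, 0 < c l) ∧ ∀ i, w i = ∑ l, c l * (u l i : ℝ) := by
  classical
  obtain ⟨s, c, hs, hc, e⟩ := exists_combination A _ w le_rfl hw hA
  obtain ⟨t, d, ht, hd, he, hl⟩ := exists_independent _ s c le_rfl hc
  have htne : 0 < t.card := by
    refine Finset.card_pos.2 (Finset.nonempty_iff_ne_empty.2 fun h => hne ?_)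
    rw [e, ← he, h, Finset.sum_empty]
  let f := t.equivFin.symm
  refine ⟨⟨t.card, htne⟩, fun l => (f l : Fin N → ℤ), fun l => d (f l), fun l i => (hs _ (ht (f l).2)).1 i,
    fun l => (hs _ (ht (f l).2)).2, hl.comp f f.injective, fun l => hd _ (f l).2, fun i => ?_⟩
  have := congrFun (e.trans he.symm) i
  rw [Finset.sum_apply, ← Finset.sum_coe_sort, ← f.sum_comp] at this
  simp only [Pi.smul_apply, smul_eq_mul, toR] at this
  exact this

end Groth.Agent.FanLib
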