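import Groth.Prelude.Def_W4c6instabfans3Fan
import Groth.Agent.FanLib.Cone
import Mathlib

/-!
Formal fans: real maps, pushforwards, common subcones, pullback elements.
-/

set_option autoImplicit false
set_option backward.isDefEq.respectTransparency false
universe u
open CategoryTheory CategoryTheory.Limits Opposite Instab Instab.Fan

namespace Groth.Agent.FanLib

variable {k n m : ICone}

theorem realMap_smul (φ : k ⟶ n) (c : ℝ) (v : Fin k.dim → ℝ) : φ.realMap (c • v) = c • φ.realMap v := by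
  funext j
  simp only [ICone.Hom.realMap, Pi.smul_apply, smul_eq_mul, Finset.mul_sum]
  exact Finset.sum_congr rfl fun i _ => by ring

theorem realMap_add (φ : k ⟶ n) (v w : Fin k.dim → ℝ) : φ.realMap (v + w) = φ.realMap v + φ.realMap w := by
  funext j
  simp only [ICone.Hom.realMap, Pi.add_apply, mul_add, Finset.sum_add_distrib]

/-- the real map as a linear map -/
def realLin (φ : k ⟶ n) : (Fin k.dim → ℝ) →ₗ[ℝ] (Fin n.dim → ℝ) where
  toFun := φ.realMap
  map_add' := realMap_add φ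
  map_smul' := realMap_smul φ

theorem realMap_toR (φ : k ⟶ n) (u : Fin k.dim → ℤ) : φ.realMap (toR u) = toR (φ.toLin u) := by
  funext j
  simp only [ICone.Hom.realMap, toR, apply_eq_sum φ.toLin u j]
  push_cast
  exact Finset.sum_congr rfl fun i _ => by ring

theorem realMap_id (v : Fin n.dim → ℝ) : (𝟙 n : n ⟶ n).realMap v = v := by
  funext j
  change ∑ i, (((LinearMap.id : (Fin n.dim → ℤ) →ₗ[ℤ] (Fin n.dim → ℤ)) (Pi.single i 1) j : ℤ) : ℝ) * v i = v j
  rw [Finset.sum_eq_single j] <;> simp +contextual [Pi.single_apply, eq_comm]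

theorem realMap_comp (φ : k ⟶ n) (ψ : n ⟶ m) (v : Fin k.dim → ℝ) :
    (φ ≫ ψ).realMap v = ψ.realMap (φ.realMap v) := by
  funext j
  change ∑ i, ((ψ.toLin (φ.toLin (Pi.single i 1)) j : ℤ) : ℝ) * v i =
    ∑ l, (ψ.toLin (Pi.single l 1) j : ℝ) * ∑ i, (φ.toLin (Pi.single i 1) l : ℝ) * v i
  simp only [Finset.mul_sum]
  rw [Finset.sum_comm]
  refine Finset.sum_congr rfl fun i _ => ?_
  rw [apply_eq_sum ψ.toLin (φ.toLin (Pi.single i 1)) j]
  push_cast
  rw [Finset.sum_mul]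
  exact Finset.sum_congr rfl fun l _ => by ring

theorem realMap_nonneg (φ : k ⟶ n) (v : Fin k.dim → ℝ) (hv : ∀ i, 0 ≤ v i) (j : Fin n.dim) :
    0 ≤ φ.realMap v j :=
  Finset.sum_nonneg fun i _ => mul_nonneg
    (Int.cast_nonneg (φ.nonneg _ (fun l => by by_cases h : l = i <;> simp [h, Pi.single_apply]) j)) (hv i)

theorem realMap_eq_zero (φ : k ⟶ n) (v : Fin k.dim → ℝ) (h : φ.realMap v = 0) : v = 0 := by
  classical
  obtain ⟨d, r₀, q, hq, hrel⟩ := exists_rat_coords v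
  have hzero : ∀ (l : Fin d), (fun i => q i l) = (0 : Fin k.dim → ℚ) := by
    intro l
    have hk : ∀ j, ∑ i, (φ.toLin (Pi.single i 1) j : ℚ) * q i l = 0 := fun j =>
      hrel _ (by simpa [ICone.Hom.realMap] using congrFun h j) l
    let D : ℕ := ∏ i, (q i l).den
    have hD : 0 < D := Finset.prod_pos fun i _ => (q i l).den_pos
    let u : Fin k.dim → ℤ := fun i => (q i l).num * ((D / (q i l).den : ℕ) : ℤ)
    have hu : ∀ i, (u i : ℚ) = D * q i l := fun i => by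
      have hd : (q i l).den ∣ D := Finset.dvd_prod_of_mem (fun i => (q i l).den) (Finset.mem_univ i)
      simp only [u, Int.cast_mul, Int.cast_natCast]
      rw [Nat.cast_div hd (by exact_mod_cast (q i l).den_pos.ne')]
      conv_rhs => rw [← Rat.num_div_den (q i l)]
      ring
    have hAu : φ.toLin u = 0 := funext fun j => by
      apply Int.cast_injective (α := ℚ)
      rw [apply_eq_sum]
      push_cast
      simp only [hu, mul_assoc, ← Finset.mul_sum]
      rw [show ∑ i, q i l * (φ.toLin (Pi.single i 1) j : ℚ) = 0 by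
        rw [← hk j]; exact Finset.sum_congr rfl fun i _ => mul_comm _ _]
      simp
    have hu0 : u = 0 := φ.injective (hAu.trans (map_zero _).symm)
    funext i
    have h2 := hu i
    rw [hu0] at h2
    rcases mul_eq_zero.1 (by simpa using h2.symm : (D : ℚ) * q i l = 0) with h' | h'
    · exact absurd h' (by exact_mod_cast hD.ne')
    · exact h'
  funext i
  rw [hq i]
  exact Finset.sum_eq_zero fun l _ => by simp [show q i l = 0 from congrFun (hzero l) i]

theorem realMap_injective (φ : k ⟶ n) : Function.Injective φ.realMap :=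
  (injective_iff_map_eq_zero (realLin φ)).2 (realMap_eq_zero φ)

/-- pushforward of an orthant point -/
def push (φ : k ⟶ n) (v : Orth k) : Orth n :=
  ⟨φ.realMap v.1, realMap_nonneg φ v.1 v.2.1, fun h => v.2.2 (realMap_eq_zero φ v.1 h)⟩

/-- positive scaling -/
def scale (c : ℝ) (hc : 0 < c) (v : Orth n) : Orth n :=
  ⟨c • v.1, fun i => mul_nonneg hc.le (v.2.1 i), smul_ne_zero hc.ne' v.2.2⟩

variable {F G : Fan.{u}}

theorem mk_glue (φ : k ⟶ n) (ξ : F.obj (op n)) (v : Orth k) (w : Orth n) (c : ℝ) (hc : 0 < c)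
    (h : w.1 = c • φ.realMap v.1) : Fan.P.mk (F.map φ.op ξ) v = Fan.P.mk ξ w :=
  Quot.sound (Fan.Rel.glue φ ξ v w c hc h)

theorem mk_map (φ : k ⟶ n) (ξ : F.obj (op n)) (v : Orth k) :
    Fan.P.mk (F.map φ.op ξ) v = Fan.P.mk ξ (push φ v) :=
  mk_glue φ ξ v _ 1 one_pos (one_smul ℝ _).symm

theorem map_id_op (ξ : F.obj (op n)) : F.map (𝟙 n).op ξ = ξ :=
  Functor.map_id_apply F (op n) ξ

theorem map_comp_op (φ : k ⟶ n) (ψ : n ⟶ m) (ξ : F.obj (op m)) :
    F.map (φ ≫ ψ).op ξ = F.map φ.op (F.map ψ.op ξ) :=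
  Functor.map_comp_apply F ψ.op φ.op ξ

theorem mk_smul (ξ : F.obj (op n)) (v w : Orth n) (c : ℝ) (hc : 0 < c) (h : w.1 = c • v.1) :
    Fan.P.mk ξ v = Fan.P.mk ξ w := by
  have := mk_glue (F := F) (𝟙 n) ξ v w c hc (by rw [realMap_id]; exact h)
  rwa [map_id_op] at this

theorem exists_mk (x : Fan.P F) : ∃ (n : ICone) (ξ : F.obj (op n)) (v : Orth n), Fan.P.mk ξ v = x := by
  induction x using Quot.ind with
  | mk p => exact ⟨p.1.1, p.1.2, p.2, rfl⟩

theorem map_mk (f : F ⟶ G) (ξ : F.obj (op n)) (v : Orth n) :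
    Fan.P.map f (Fan.P.mk ξ v) = Fan.P.mk (f.app (op n) ξ) v :=
  rfl

theorem map_comp_P {H : Fan.{u}} (f : F ⟶ G) (g : G ⟶ H) (x : Fan.P F) :
    Fan.P.map (f ≫ g) x = Fan.P.map g (Fan.P.map f x) := by
  induction x using Quot.ind with
  | mk p => rfl

theorem map_id_P (x : Fan.P F) : Fan.P.map (𝟙 F) x = x := by
  induction x using Quot.ind with
  | mk p => rfl

/-- the cone morphism given by independent nonnegative vectors -/
noncomputable def homOfVectors (p : ℕ+) (a : Fin p → Fin k.dim → ℤ) (ha : LinearIndependent ℤ a)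
    (hn : ∀ l i, 0 ≤ a l i) : (⟨p⟩ : ICone) ⟶ k where
  toLin := Fintype.linearCombination ℤ a
  injective := ha.fintypeLinearCombination_injective
  nonneg := fun v hv j => by
    rw [Fintype.linearCombination_apply, Finset.sum_apply]
    exact Finset.sum_nonneg fun l _ => mul_nonneg (hv l) (hn l j)

theorem exists_fibre_lin {k' : ICone} {N : ℕ} (φ : (Fin k.dim → ℤ) →ₗ[ℤ] (Fin N → ℤ))
    (ψ : (Fin k'.dim → ℤ) →ₗ[ℤ] (Fin N → ℤ)) (hφ : Function.Injective φ) (hψ : Function.Injective ψ)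
    (y : Orth k) (y' : Orth k')
    (h : ∀ j, ∑ i, (φ (Pi.single i 1) j : ℝ) * y.1 i = ∑ i, (ψ (Pi.single i 1) j : ℝ) * y'.1 i) :
    ∃ (m : ICone) (α : m ⟶ k) (β : m ⟶ k') (z : Orth m),
      φ.comp α.toLin = ψ.comp β.toLin ∧ α.realMap z.1 = y.1 ∧ β.realMap z.1 = y'.1 := by
  classical
  let P1 : (Fin ((k.dim : ℕ) + k'.dim) → ℤ) →ₗ[ℤ] (Fin k.dim → ℤ) := LinearMap.funLeft ℤ ℤ (Fin.castAdd _)
  let P2 : (Fin ((k.dim : ℕ) + k'.dim) → ℤ) →ₗ[ℤ] (Fin k'.dim → ℤ) := LinearMap.funLeft ℤ ℤ (Fin.natAdd _)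
  let A := φ ∘ₗ P1 - ψ ∘ₗ P2
  let w : Fin ((k.dim : ℕ) + k'.dim) → ℝ := Fin.append y.1 y'.1
  have hw : ∀ i, 0 ≤ w i := fun i => by
    induction i using Fin.addCases with
    | left i => simpa [w] using y.2.1 i
    | right i => simpa [w] using y'.2.1 i
  have hw0 : w ≠ 0 := fun e => y.2.2 (funext fun i => by simpa [w] using congrFun e (Fin.castAdd _ i))
  have h1 : ∀ i, P1 (Pi.single (Fin.castAdd k'.dim i) 1) = Pi.single i 1 ∧
      P2 (Pi.single (Fin.castAdd k'.dim i) 1) = 0 := fun i =>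
    ⟨funext fun l => by simp [P1, LinearMap.funLeft, Pi.single_apply],
      funext fun l => by simp [P2, LinearMap.funLeft, Pi.single_apply, Fin.ext_iff]; omega⟩
  have h2 : ∀ i, P1 (Pi.single (Fin.natAdd k.dim i) 1) = 0 ∧
      P2 (Pi.single (Fin.natAdd k.dim i) 1) = Pi.single i 1 := fun i =>
    ⟨funext fun l => by simp [P1, LinearMap.funLeft, Pi.single_apply, Fin.ext_iff]; omega,
      funext fun l => by simp [P2, LinearMap.funLeft, Pi.single_apply]⟩
  have hA : ∀ j, ∑ i, (A (Pi.single i 1) j : ℝ) * w i = 0 := fun j => by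
    have hj := h j
    rw [Fin.sum_univ_add]
    simp [A, w, (h1 _).1, (h1 _).2, (h2 _).1, (h2 _).2, hj]
  obtain ⟨p, U, c, hU, hAU, hli, hc, hwU⟩ := exists_decomposition A w hw hw0 hA
  have hAU' : ∀ l, φ (P1 (U l)) = ψ (P2 (U l)) := fun l => sub_eq_zero.1 (hAU l)
  have hP : ∀ x, P1 x = 0 → P2 x = 0 → x = 0 := fun x e1 e2 => funext fun i => by
    induction i using Fin.addCases with
    | left i => simpa [P1, LinearMap.funLeft] using congrFun e1 i
    | right i => simpa [P2, LinearMap.funLeft] using congrFun e2 i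
  have hl1 : LinearIndependent ℤ fun l => P1 (U l) := by
    rw [Fintype.linearIndependent_iff]
    intro g hg
    have e1 : P1 (∑ l, g l • U l) = 0 := by simp only [map_sum, LinearMap.map_smul]; exact hg
    refine Fintype.linearIndependent_iff.1 hli g (hP _ e1 (hψ ?_))
    have e2 : ψ (P2 (∑ l, g l • U l)) = φ (P1 (∑ l, g l • U l)) := by
      simp only [map_sum, LinearMap.map_smul, hAU']
    rw [e2, e1, map_zero, map_zero]
  have hl2 : LinearIndependent ℤ fun l => P2 (U l) := by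
    rw [Fintype.linearIndependent_iff]
    intro g hg
    have e1 : P2 (∑ l, g l • U l) = 0 := by simp only [map_sum, LinearMap.map_smul]; exact hg
    refine Fintype.linearIndependent_iff.1 hli g (hP _ (hφ ?_) e1)
    have e2 : φ (P1 (∑ l, g l • U l)) = ψ (P2 (∑ l, g l • U l)) := by
      simp only [map_sum, LinearMap.map_smul, hAU']
    rw [e2, e1, map_zero, map_zero]
  let α := homOfVectors (k := k) p (fun l => P1 (U l)) hl1 fun l i => hU l _
  let β := homOfVectors (k := k') p (fun l => P2 (U l)) hl2 fun l i => hU l _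
  refine ⟨⟨p⟩, α, β, ⟨c, fun l => (hc l).le, fun e => (hc ⟨0, p.pos⟩).ne' (congrFun e _)⟩, ?_, ?_, ?_⟩
  · refine LinearMap.ext fun v => ?_
    change φ (Fintype.linearCombination ℤ (fun l => P1 (U l)) v) =
      ψ (Fintype.linearCombination ℤ (fun l => P2 (U l)) v)
    simp only [Fintype.linearCombination_apply, map_sum, LinearMap.map_smul, hAU']
  · funext i
    change ∑ l, ((Fintype.linearCombination ℤ (fun l => P1 (U l)) (Pi.single l 1) i : ℤ) : ℝ) * c l = y.1 i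
    rw [show y.1 i = w (Fin.castAdd _ i) by simp [w], hwU]
    exact Finset.sum_congr rfl fun l _ => by
      rw [Fintype.linearCombination_apply_single, one_smul, mul_comm]; rfl
  · funext i
    change ∑ l, ((Fintype.linearCombination ℤ (fun l => P2 (U l)) (Pi.single l 1) i : ℤ) : ℝ) * c l = y'.1 i
    rw [show y'.1 i = w (Fin.natAdd _ i) by simp [w], hwU]
    exact Finset.sum_congr rfl fun l _ => by
      rw [Fintype.linearCombination_apply_single, one_smul, mul_comm]; rfl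

theorem exists_fibre {k' : ICone} (φ : k ⟶ n) (ψ : k' ⟶ n) (y : Orth k) (y' : Orth k')
    (h : φ.realMap y.1 = ψ.realMap y'.1) :
    ∃ (m : ICone) (α : m ⟶ k) (β : m ⟶ k') (z : Orth m),
      α ≫ φ = β ≫ ψ ∧ α.realMap z.1 = y.1 ∧ β.realMap z.1 = y'.1 := by
  obtain ⟨m, α, β, z, e, hα, hβ⟩ := exists_fibre_lin φ.toLin ψ.toLin φ.injective ψ.injective y y' (congrFun h)
  exact ⟨m, α, β, z, ICone.Hom.ext e, hα, hβ⟩

/-- two points have a common subcone -/
def Common (p q : Fan.Pt F) : Prop :=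
  ∃ (k : ICone) (φ₁ : k ⟶ p.1.1) (φ₂ : k ⟶ q.1.1) (y : Orth k) (c₁ c₂ : ℝ),
    F.map φ₁.op p.1.2 = F.map φ₂.op q.1.2 ∧ 0 < c₁ ∧ 0 < c₂ ∧
      p.2.1 = c₁ • φ₁.realMap y.1 ∧ q.2.1 = c₂ • φ₂.realMap y.1

theorem common_symm {p q : Fan.Pt F} (h : Common p q) : Common q p := by
  obtain ⟨k, φ₁, φ₂, y, c₁, c₂, e, h₁, h₂, e₁, e₂⟩ := h
  exact ⟨k, φ₂, φ₁, y, c₂, c₁, e.symm, h₂, h₁, e₂, e₁⟩

theorem common_trans {p q r : Fan.Pt F} (h : Common p q) (h' : Common q r) : Common p r := by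
  obtain ⟨k, φ₁, φ₂, y, c₁, c₂, e, h₁, h₂, e₁, e₂⟩ := h
  obtain ⟨k', ψ₂, ψ₃, y', d₂, d₃, f, g₂, g₃, f₂, f₃⟩ := h'
  obtain ⟨m, α, β, z, hm, hα, hβ⟩ := exists_fibre φ₂ ψ₂ (scale c₂ h₂ y) (scale d₂ g₂ y')
    (by simp only [scale, realMap_smul]; exact e₂.symm.trans f₂)
  refine ⟨m, α ≫ φ₁, β ≫ ψ₃, z, c₁ / c₂, d₃ / d₂, ?_, div_pos h₁ h₂, div_pos g₃ g₂, ?_, ?_⟩
  · rw [map_comp_op, e, ← map_comp_op, hm, map_comp_op, f, ← map_comp_op]
  · rw [realMap_comp, hα, e₁]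
    simp only [scale, realMap_smul, smul_smul, div_mul_cancel₀ _ h₂.ne']
  · rw [realMap_comp, hβ, f₃]
    simp only [scale, realMap_smul, smul_smul, div_mul_cancel₀ _ g₂.ne']

theorem exists_common {n' : ICone} {σ₁ : F.obj (op n)} {σ₂ : F.obj (op n')} {v₁ : Orth n} {v₂ : Orth n'}
    (h : Fan.P.mk σ₁ v₁ = Fan.P.mk σ₂ v₂) :
    ∃ (k : ICone) (φ₁ : k ⟶ n) (φ₂ : k ⟶ n') (y : Orth k) (c₁ c₂ : ℝ),
      F.map φ₁.op σ₁ = F.map φ₂.op σ₂ ∧ 0 < c₁ ∧ 0 < c₂ ∧
        v₁.1 = c₁ • φ₁.realMap y.1 ∧ v₂.1 = c₂ • φ₂.realMap y.1 := by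
  have H : ∀ p q : Fan.Pt F, Relation.EqvGen (Fan.Rel F) p q → Common p q := by
    intro p q h
    induction h with
    | rel p q h =>
      obtain ⟨φ, ξ, v, w, c, hc, hw⟩ := h
      exact ⟨_, 𝟙 _, φ, v, 1, c, map_id_op _, one_pos, hc, by rw [realMap_id, one_smul], hw⟩
    | refl p => exact ⟨_, 𝟙 _, 𝟙 _, p.2, 1, 1, rfl, one_pos, one_pos, by rw [realMap_id, one_smul],
        by rw [realMap_id, one_smul]⟩
    | symm p q _ ih => exact common_symm ih
    | trans p q r _ _ i₁ i₂ => exact common_trans i₁ i₂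
  exact H ⟨⟨n, σ₁⟩, v₁⟩ ⟨⟨n', σ₂⟩, v₂⟩ (Quot.eqvGen_exact h)

theorem mk_eq_of_common {n' : ICone} {σ₁ : F.obj (op n)} {σ₂ : F.obj (op n')} {v₁ : Orth n} {v₂ : Orth n'}
    (φ₁ : k ⟶ n) (φ₂ : k ⟶ n') (y : Orth k) (c₁ c₂ : ℝ) (e : F.map φ₁.op σ₁ = F.map φ₂.op σ₂)
    (h₁ : 0 < c₁) (h₂ : 0 < c₂) (e₁ : v₁.1 = c₁ • φ₁.realMap y.1) (e₂ : v₂.1 = c₂ • φ₂.realMap y.1) :
    Fan.P.mk σ₁ v₁ = Fan.P.mk σ₂ v₂ :=
  ((mk_glue φ₁ σ₁ y v₁ c₁ h₁ e₁).symm.trans (by rw [e])).trans (mk_glue φ₂ σ₂ y v₂ c₂ h₂ e₂)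

theorem coneMap_app (σ : F.obj (op n)) (φ : k ⟶ n) :
    (Fan.coneMap σ).app (op k) (ULift.up φ) = F.map φ.op σ :=
  rfl

theorem naturality_op (f : F ⟶ G) (φ : k ⟶ n) (ξ : F.obj (op n)) :
    f.app (op k) (F.map φ.op ξ) = G.map φ.op (f.app (op n) ξ) :=
  NatTrans.naturality_apply f φ.op ξ

variable {F' : Fan.{u}}

theorem exists_pullback_elem (f : F ⟶ G) (g : F' ⟶ G) (a : F.obj (op n)) (b : F'.obj (op n))
    (h : f.app (op n) a = g.app (op n) b) :
    ∃ x : (pullback f g).obj (op n),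
      (pullback.fst f g).app (op n) x = a ∧ (pullback.snd f g).app (op n) x = b := by
  have hc : Fan.coneMap a ≫ f = Fan.coneMap b ≫ g := by
    apply uliftYonedaEquiv.{u}.injective
    rw [uliftYonedaEquiv_comp, uliftYonedaEquiv_comp, Fan.coneMap, Fan.coneMap, Equiv.apply_symm_apply,
      Equiv.apply_symm_apply]
    exact h
  refine ⟨uliftYonedaEquiv.{u} (pullback.lift (Fan.coneMap a) (Fan.coneMap b) hc), ?_, ?_⟩
  · rw [← uliftYonedaEquiv_comp, pullback.lift_fst, Fan.coneMap, Equiv.apply_symm_apply]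
  · rw [← uliftYonedaEquiv_comp, pullback.lift_snd, Fan.coneMap, Equiv.apply_symm_apply]

theorem pullback_elem_condition (f : F ⟶ G) (g : F' ⟶ G) (x : (pullback f g).obj (op n)) :
    f.app (op n) ((pullback.fst f g).app (op n) x) = g.app (op n) ((pullback.snd f g).app (op n) x) := by
  rw [← NatTrans.comp_app_apply, pullback.condition, NatTrans.comp_app_apply]

theorem pullback_elem_ext (f : F ⟶ G) (g : F' ⟶ G) {x y : (pullback f g).obj (op n)}
    (h₁ : (pullback.fst f g).app (op n) x = (pullback.fst f g).app (op n) y)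
    (h₂ : (pullback.snd f g).app (op n) x = (pullback.snd f g).app (op n) y) : x = y := by
  apply uliftYonedaEquiv.{u}.symm.injective
  apply pullback.hom_ext <;> apply uliftYonedaEquiv.{u}.injective <;>
    rw [uliftYonedaEquiv_comp, uliftYonedaEquiv_comp, Equiv.apply_symm_apply, Equiv.apply_symm_apply] <;>
    assumption

theorem exists_lift (f : F ⟶ G) (g : F' ⟶ G) (x : Fan.P F) (x' : Fan.P F') (h : Fan.P.map f x = Fan.P.map g x') :
    ∃ y : Fan.P (pullback f g),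
      Fan.P.map (pullback.fst f g) y = x ∧ Fan.P.map (pullback.snd f g) y = x' := by
  obtain ⟨n, ξ, v, rfl⟩ := exists_mk x
  obtain ⟨n', ξ', v', rfl⟩ := exists_mk x'
  obtain ⟨k, φ₁, φ₂, y, c₁, c₂, e, h₁, h₂, e₁, e₂⟩ := exists_common h
  obtain ⟨z, hz₁, hz₂⟩ := exists_pullback_elem f g (F.map φ₁.op ξ) (F'.map φ₂.op ξ')
    (by rw [naturality_op, naturality_op, e])
  refine ⟨Fan.P.mk z y, ?_, ?_⟩
  · rw [map_mk, hz₁]
    exact mk_glue φ₁ ξ y v c₁ h₁ e₁
  · rw [map_mk, hz₂]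
    exact mk_glue φ₂ ξ' y v' c₂ h₂ e₂

theorem range_map_range_ι (f : F ⟶ G) :
    Set.range (Fan.P.map f) = Set.range (Fan.P.map (Subfunctor.range f).ι) := by
  ext x
  constructor
  · rintro ⟨y, rfl⟩
    exact ⟨Fan.P.map (Subfunctor.toRange f) y, by rw [← map_comp_P, Subfunctor.toRange_ι]⟩
  · rintro ⟨y, rfl⟩
    obtain ⟨n, ⟨ξ, a, ha⟩, v, rfl⟩ := exists_mk y
    exact ⟨Fan.P.mk a v, by rw [map_mk, map_mk]; exact congrArg (fun t => Fan.P.mk t v) ha⟩

end Groth.Agent.FanLib
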