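import Groth.Agent.FanLib.Basic

/-!
Boundedness, closed maps and quasi-separatedness for formal fans.
-/

set_option autoImplicit false
set_option backward.isDefEq.respectTransparency false
universe u
open CategoryTheory CategoryTheory.Limits Opposite Instab Instab.Fan

namespace Groth.Agent.FanLib

variable {k n : ICone} {F G : Fan.{u}}

theorem isClosed_P_iff {C : Set (Fan.P F)} :
    IsClosed C ↔ ∀ (n : ICone) (ξ : F.obj (op n)), IsClosed {v : Orth n | Fan.P.mk ξ v ∈ C} := by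
  rw [← (isQuotientMap_quot_mk (r := Fan.Rel F)).isClosed_preimage]
  exact (isClosed_sigma_iff (s := (Quot.mk (Fan.Rel F) ⁻¹' C : Set (Fan.Pt F)))).trans
    ⟨fun h n ξ => h ⟨n, ξ⟩, fun h e => h e.1 e.2⟩

theorem continuous_mk (ξ : F.obj (op n)) : Continuous (Fan.P.mk ξ) :=
  continuous_quot_mk.comp (continuous_sigmaMk (i := (⟨n, ξ⟩ : Σ n : ICone, F.obj (op n))))

theorem continuous_map (f : F ⟶ G) : Continuous (Fan.P.map f) :=
  continuous_iff_isClosed.2 fun C hC => isClosed_P_iff.2 fun n ξ =>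
    hC.preimage (continuous_mk (F := G) (f.app (op n) ξ))

theorem continuous_realMap (φ : k ⟶ n) : Continuous φ.realMap :=
  continuous_pi fun j => continuous_finsetSum _ fun i _ => continuous_const.mul (continuous_apply i)

theorem continuous_push (φ : k ⟶ n) : Continuous (push φ) :=
  Continuous.subtype_mk ((continuous_realMap φ).comp continuous_subtype_val) _

theorem isClosed_image_push (φ : k ⟶ n) (S : Set (Orth k)) (hS : IsClosed S) :
    IsClosed {v : Orth n | ∃ y ∈ S, v.1 = φ.realMap y.1} := by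
  let T : Set (Fin k.dim → ℝ) := closure (Subtype.val '' S)
  have hemb : Topology.IsClosedEmbedding φ.realMap :=
    LinearMap.isClosedEmbedding_of_injective (f := realLin φ) (LinearMap.ker_eq_bot.2 (realMap_injective φ))
  have h : IsClosed {v : Orth n | v.1 ∈ φ.realMap '' T} :=
    (hemb.isClosedMap _ isClosed_closure).preimage continuous_subtype_val
  convert h using 1
  ext v
  constructor
  · rintro ⟨y, hy, e⟩
    exact ⟨y.1, subset_closure ⟨y, hy, rfl⟩, e.symm⟩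
  · rintro ⟨t, ht, e⟩
    have htn : ∀ i, 0 ≤ t i := by
      intro i
      refine (isClosed_le continuous_const (continuous_apply i)).closure_subset_iff.2 ?_ ht
      rintro _ ⟨y, -, rfl⟩
      exact y.2.1 i
    have ht0 : t ≠ 0 := by
      rintro rfl
      exact v.2.2 (e ▸ map_zero (realLin φ))
    refine ⟨⟨t, htn, ht0⟩, ?_, e.symm⟩
    rw [← hS.closure_eq]
    exact (closure_subtype (s := S)).2 ht

theorem mk_hom_eq {k' : ICone} (φ : k ⟶ n) (ψ : k' ⟶ n) (y : Orth k) (z : Orth k')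
    (h : Fan.P.mk (F := uliftYoneda.{u}.obj n) (ULift.up φ) y =
      Fan.P.mk (F := uliftYoneda.{u}.obj n) (ULift.up ψ) z) :
    ∃ c : ℝ, 0 < c ∧ φ.realMap y.1 = c • ψ.realMap z.1 := by
  obtain ⟨m, γ₁, γ₂, w, c₁, c₂, e, h₁, h₂, e₁, e₂⟩ := exists_common h
  have e' : γ₁ ≫ φ = γ₂ ≫ ψ := congrArg ULift.down e
  refine ⟨c₁ / c₂, div_pos h₁ h₂, ?_⟩
  rw [e₁, e₂, realMap_smul, realMap_smul, smul_smul, div_mul_cancel₀ _ h₂.ne', ← realMap_comp, ← realMap_comp, e']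

theorem isBounded_hom (n : ICone) : Fan.IsBounded (uliftYoneda.{u}.obj n) := by
  classical
  refine ⟨{⟨n, (ULift.up (𝟙 n) : (uliftYoneda.{u}.obj n).obj (op n))⟩}, fun x => ⟨_, Finset.mem_singleton_self _, ?_⟩⟩
  obtain ⟨k, φ, v, rfl⟩ := exists_mk x
  exact ⟨push φ.down v, (mk_map (F := uliftYoneda.{u}.obj n) φ.down (ULift.up (𝟙 n)) v).symm.trans (by rfl)⟩

theorem exists_cells (ψ : F ⟶ G) (hψ : Fan.IsBoundedMap ψ) (ξ : G.obj (op n)) :
    ∃ s : Finset (Σ k : ICone, F.obj (op k) × (k ⟶ n)),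
      (∀ e ∈ s, ψ.app (op e.1) e.2.1 = G.map e.2.2.op ξ) ∧
      ∀ (x : Fan.P F) (v : Orth n), Fan.P.map ψ x = Fan.P.mk ξ v →
        ∃ e ∈ s, ∃ y : Orth e.1, Fan.P.mk e.2.1 y = x ∧ v.1 = e.2.2.realMap y.1 := by
  classical
  obtain ⟨s, hs⟩ := hψ n ξ
  refine ⟨s.image fun e => ⟨e.1, (pullback.fst ψ (Fan.coneMap ξ)).app _ e.2,
    ((pullback.snd ψ (Fan.coneMap ξ)).app _ e.2).down⟩, fun e he => ?_, fun x v h => ?_⟩
  · obtain ⟨e, -, rfl⟩ := Finset.mem_image.1 he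
    exact pullback_elem_condition ψ (Fan.coneMap ξ) e.2
  · obtain ⟨p, hp₁, hp₂⟩ := exists_lift ψ (Fan.coneMap ξ) x
      (Fan.P.mk (F := uliftYoneda.{u}.obj n) (ULift.up (𝟙 n)) v) (by
        rw [h, map_mk, coneMap_app, map_id_op])
    obtain ⟨e, he, z, rfl⟩ := hs p
    rw [map_mk] at hp₁ hp₂
    obtain ⟨c, hc, hv⟩ := mk_hom_eq.{u} (𝟙 n) ((pullback.snd ψ (Fan.coneMap ξ)).app _ e.2).down v z hp₂.symm
    rw [realMap_id] at hv
    refine ⟨_, Finset.mem_image_of_mem _ he, scale c hc z, ?_, ?_⟩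
    · rw [← hp₁]
      exact (mk_smul _ _ _ c hc rfl).symm
    · simp only [scale, realMap_smul]
      exact hv

theorem preimage_image_eq (ψ : F ⟶ G) (ξ : G.obj (op n))
    (s : Finset (Σ k : ICone, F.obj (op k) × (k ⟶ n)))
    (hs : ∀ e ∈ s, ψ.app (op e.1) e.2.1 = G.map e.2.2.op ξ)
    (hs' : ∀ (x : Fan.P F) (v : Orth n), Fan.P.map ψ x = Fan.P.mk ξ v →
        ∃ e ∈ s, ∃ y : Orth e.1, Fan.P.mk e.2.1 y = x ∧ v.1 = e.2.2.realMap y.1) (C : Set (Fan.P F)) :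
    {v : Orth n | Fan.P.mk ξ v ∈ Fan.P.map ψ '' C} =
      ⋃ e ∈ s, {v : Orth n | ∃ y ∈ {y : Orth e.1 | Fan.P.mk e.2.1 y ∈ C}, v.1 = e.2.2.realMap y.1} := by
  ext v
  simp only [Set.mem_setOf_eq, Set.mem_iUnion, exists_prop]
  constructor
  · rintro ⟨x, hx, h⟩
    obtain ⟨e, he, y, rfl, hv⟩ := hs' x v h
    exact ⟨e, he, y, hx, hv⟩
  · rintro ⟨e, he, y, hy, hv⟩
    refine ⟨_, hy, ?_⟩
    rw [map_mk, hs e he, mk_map]
    exact congrArg (Fan.P.mk ξ) (Subtype.ext hv.symm)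

theorem isClosedMap_of_isBoundedMap (ψ : F ⟶ G) (hψ : Fan.IsBoundedMap ψ) : IsClosedMap (Fan.P.map ψ) := by
  intro C hC
  refine isClosed_P_iff.2 fun n ξ => ?_
  obtain ⟨s, hs, hs'⟩ := exists_cells ψ hψ ξ
  rw [preimage_image_eq ψ ξ s hs hs' C]
  exact isClosed_biUnion_finset fun e _ => isClosed_image_push e.2.2 _ (hC.preimage (continuous_mk e.2.1))

theorem fromInt_mem (ξ : F.obj (op n)) (u : Fin n.dim → ℤ) (hu : ∀ i, 0 ≤ u i) (hu0 : u ≠ 0) (v : Orth n)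
    (hv : v.1 = toR u) : (Fan.P.mk ξ v).IsRational := by
  have hli : LinearIndependent ℤ (fun _ : Fin (1 : ℕ+) => u) := by
    rw [Fintype.linearIndependent_iff]
    intro g hg i
    haveI : Subsingleton (Fin ((1 : ℕ+) : ℕ)) := inferInstanceAs (Subsingleton (Fin 1))
    obtain ⟨j, hj⟩ := Function.ne_iff.1 hu0
    rw [Subsingleton.elim i 0]
    have h2 := congrFun hg j
    simp at h2
    exact h2.resolve_right hj
  let φ : Fan.one ⟶ n := homOfVectors (k := n) 1 (fun _ => u) hli fun _ i => hu i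
  refine ⟨F.map φ.op ξ, (mk_glue φ ξ _ v 1 one_pos ?_).symm⟩
  rw [hv, one_smul]
  funext j
  change (u j : ℝ) =
    ∑ i, ((Fintype.linearCombination ℤ (fun _ : Fin (1 : ℕ+) => u) (Pi.single i 1) j : ℤ) : ℝ) * 1
  simp

theorem mem_of_rational {C : Set (Orth n)} (hC : IsClosed C)
    (hscale : ∀ (v w : Orth n) (c : ℝ), v ∈ C → 0 < c → w.1 = c • v.1 → w ∈ C)
    (h : ∀ (v : Orth n) (u : Fin n.dim → ℤ), (∀ i, 0 ≤ u i) → u ≠ 0 → v.1 = toR u → v ∈ C) (v : Orth n) :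
    v ∈ C := by
  obtain ⟨i₀, hi₀⟩ := Function.ne_iff.1 v.2.2
  have hpos : 0 < v.1 i₀ := lt_of_le_of_ne (v.2.1 i₀) (Ne.symm hi₀)
  let U : ℕ → Fin n.dim → ℤ := fun m i => ⌈((m : ℝ) + 1) * v.1 i⌉
  have hU : ∀ m i, 0 ≤ U m i := fun m i => Int.ceil_nonneg (mul_nonneg (by positivity) (v.2.1 i))
  have hU0 : ∀ m, U m ≠ 0 := fun m e =>
    (Int.ceil_pos.2 (mul_pos (by positivity : (0 : ℝ) < (m : ℝ) + 1) hpos)).ne' (congrFun e i₀)
  let W : ℕ → Orth n := fun m => scale (1 / ((m : ℝ) + 1)) (by positivity)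
    ⟨toR (U m), fun i => Int.cast_nonneg (hU m i),
      fun e => hU0 m (funext fun i => by simpa [toR] using congrFun e i)⟩
  refine hC.mem_of_tendsto (f := W) (b := Filter.atTop) ?_ (Filter.Eventually.of_forall fun m =>
    hscale _ _ _ (h _ (U m) (hU m) (hU0 m) rfl) (by positivity) rfl)
  rw [tendsto_subtype_rng, tendsto_pi_nhds]
  intro i
  have h0 : Filter.Tendsto (fun m : ℕ => v.1 i + 1 / ((m : ℝ) + 1)) Filter.atTop (nhds (v.1 i)) := by
    simpa using (tendsto_const_nhds (x := v.1 i)).add (tendsto_one_div_add_atTop_nhds_zero_nat (𝕜 := ℝ))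
  refine tendsto_of_tendsto_of_tendsto_of_le_of_le tendsto_const_nhds h0 (fun m => ?_) (fun m => ?_)
  · change v.1 i ≤ 1 / ((m : ℝ) + 1) * (⌈((m : ℝ) + 1) * v.1 i⌉ : ℝ)
    rw [one_div_mul_eq_div, le_div_iff₀ (by positivity)]
    linarith [Int.le_ceil (((m : ℝ) + 1) * v.1 i)]
  · change 1 / ((m : ℝ) + 1) * (⌈((m : ℝ) + 1) * v.1 i⌉ : ℝ) ≤ v.1 i + 1 / ((m : ℝ) + 1)
    rw [one_div_mul_eq_div, div_le_iff₀ (by positivity),
      show (v.1 i + 1 / ((m : ℝ) + 1)) * ((m : ℝ) + 1) = ((m : ℝ) + 1) * v.1 i + 1 by field_simp]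
    linarith [Int.ceil_lt_add_one (((m : ℝ) + 1) * v.1 i)]

theorem exists_pairs (hF : Fan.IsQuasiSeparated F) {n' : ICone} (ξ : F.obj (op n)) (ξ' : F.obj (op n')) :
    ∃ s : Finset (Σ k : ICone, (k ⟶ n) × (k ⟶ n')),
      (∀ e ∈ s, F.map e.2.1.op ξ = F.map e.2.2.op ξ') ∧
      ∀ (v : Orth n) (w : Orth n'), Fan.P.mk ξ v = Fan.P.mk ξ' w ↔
        ∃ e ∈ s, ∃ (y : Orth e.1) (c c' : ℝ), 0 < c ∧ 0 < c' ∧
          v.1 = c • e.2.1.realMap y.1 ∧ w.1 = c' • e.2.2.realMap y.1 := by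
  classical
  obtain ⟨s, hs⟩ := hF n n' ξ ξ'
  have heq : ∀ e ∈ s.image (fun e => (⟨e.1, ((pullback.fst (Fan.coneMap ξ) (Fan.coneMap ξ')).app _ e.2).down,
      ((pullback.snd (Fan.coneMap ξ) (Fan.coneMap ξ')).app _ e.2).down⟩ : Σ k : ICone, (k ⟶ n) × (k ⟶ n'))),
      F.map e.2.1.op ξ = F.map e.2.2.op ξ' := by
    intro e he
    obtain ⟨e, -, rfl⟩ := Finset.mem_image.1 he
    exact pullback_elem_condition (Fan.coneMap ξ) (Fan.coneMap ξ') e.2
  refine ⟨_, heq, fun v w => ⟨fun h => ?_, ?_⟩⟩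
  · obtain ⟨p, hp₁, hp₂⟩ := exists_lift (Fan.coneMap ξ) (Fan.coneMap ξ')
      (Fan.P.mk (F := uliftYoneda.{u}.obj n) (ULift.up (𝟙 n)) v)
      (Fan.P.mk (F := uliftYoneda.{u}.obj n') (ULift.up (𝟙 n')) w)
      (by rw [map_mk, map_mk, coneMap_app, coneMap_app, map_id_op, map_id_op, h])
    obtain ⟨e, he, z, rfl⟩ := hs p
    rw [map_mk] at hp₁ hp₂
    obtain ⟨c, hc, hv⟩ := mk_hom_eq.{u} (𝟙 n)
      ((pullback.fst (Fan.coneMap ξ) (Fan.coneMap ξ')).app _ e.2).down v z hp₁.symm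
    obtain ⟨c', hc', hw⟩ := mk_hom_eq.{u} (𝟙 n')
      ((pullback.snd (Fan.coneMap ξ) (Fan.coneMap ξ')).app _ e.2).down w z hp₂.symm
    rw [realMap_id] at hv hw
    exact ⟨_, Finset.mem_image_of_mem _ he, z, c, c', hc, hc', hv, hw⟩
  · rintro ⟨e, he, y, c, c', hc, hc', hv, hw⟩
    exact mk_eq_of_common e.2.1 e.2.2 y c c' (heq e he) hc hc' hv hw

theorem isClosed_mk_image (hF : Fan.IsQuasiSeparated F) (ξ : F.obj (op n)) (S : Set (Orth n)) (hS : IsClosed S)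
    (hinv : ∀ v w : Orth n, v ∈ S → ∀ c : ℝ, 0 < c → w.1 = c • v.1 → w ∈ S) :
    IsClosed (Fan.P.mk ξ '' S) := by
  refine isClosed_P_iff.2 fun n' ξ' => ?_
  obtain ⟨s, hs, hs'⟩ := exists_pairs hF ξ ξ'
  have e : {w : Orth n' | Fan.P.mk ξ' w ∈ Fan.P.mk ξ '' S} =
      ⋃ e ∈ s, {w : Orth n' | ∃ y ∈ push e.2.1 ⁻¹' S, w.1 = e.2.2.realMap y.1} := by
    ext w
    simp only [Set.mem_setOf_eq, Set.mem_iUnion, exists_prop]
    constructor
    · rintro ⟨v, hv, h⟩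
      obtain ⟨e, he, y, c, c', hc, hc', e₁, e₂⟩ := (hs' v w).1 h
      refine ⟨e, he, scale c' hc' y, hinv v _ hv (c' / c) (div_pos hc' hc) ?_, ?_⟩
      · simp only [push, scale, realMap_smul, e₁, smul_smul, div_mul_cancel₀ _ hc.ne']
      · simp only [scale, realMap_smul]
        exact e₂
    · rintro ⟨e, he, y, hy, hw⟩
      exact ⟨push e.2.1 y, hy, (hs' _ w).2 ⟨e, he, y, 1, 1, one_pos, one_pos, (one_smul _ _).symm,
        by rw [one_smul]; exact hw⟩⟩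
  rw [e]
  exact isClosed_biUnion_finset fun e _ => isClosed_image_push e.2.2 _ (hS.preimage (continuous_push e.2.1))

theorem isClosed_cell (hF : Fan.IsQuasiSeparated F) (ξ : F.obj (op n)) : IsClosed (Fan.P.cell ξ) := by
  have := isClosed_mk_image hF ξ Set.univ isClosed_univ (fun _ _ _ _ _ _ => trivial)
  rwa [Set.image_univ] at this

theorem coherent (hF : Fan.IsQuasiSeparated F) (S : Set (Fan.P F)) :
    IsClosed S ↔ ∀ (n : ICone) (ξ : F.obj (op n)), IsClosed (S ∩ Fan.P.cell ξ) := by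
  refine ⟨fun hS n ξ => hS.inter (isClosed_cell hF ξ), fun h => isClosed_P_iff.2 fun n ξ => ?_⟩
  convert (h n ξ).preimage (continuous_mk ξ) using 1
  ext v
  exact ⟨fun hv => ⟨hv, v, rfl⟩, fun hv => hv.1⟩

end Groth.Agent.FanLib
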