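import Groth.Agent.FanLib.Bounded

/-!
Consequences of quasi-separatedness: points closed, sequences, separation by rational points.
-/

set_option autoImplicit false
set_option backward.isDefEq.respectTransparency false
universe u
open CategoryTheory CategoryTheory.Limits Opposite Instab Instab.Fan Filter

namespace Groth.Agent.FanLib

variable {k n : ICone} {F G : Fan.{u}}

theorem sum_pos' (v : Orth n) : 0 < ∑ i, v.1 i := by
  obtain ⟨i, hi⟩ := Function.ne_iff.1 v.2.2
  exact Finset.sum_pos' (fun i _ => v.2.1 i) ⟨i, Finset.mem_univ i, lt_of_le_of_ne (v.2.1 i) (Ne.symm hi)⟩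

/-- normalisation to coordinate sum one -/
noncomputable def normalize (v : Orth n) : Orth n :=
  scale (∑ i, v.1 i)⁻¹ (inv_pos.2 (sum_pos' v)) v

theorem continuous_normalize : Continuous fun v : Orth n => (normalize v).1 :=
  ((continuous_finsetSum _ fun i _ => (continuous_apply i).comp continuous_subtype_val).inv₀
    fun v => (sum_pos' v).ne').smul continuous_subtype_val

theorem normalize_mem (v : Orth n) : (normalize v).1 ∈ stdSimplex ℝ (Fin n.dim) :=
  ⟨(normalize v).2.1, by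
    simp only [normalize, scale, Pi.smul_apply, smul_eq_mul, ← Finset.mul_sum]
    exact inv_mul_cancel₀ (sum_pos' v).ne'⟩

theorem normalize_scale (v w : Orth n) (c : ℝ) (hc : 0 < c) (h : w.1 = c • v.1) :
    normalize w = normalize v := by
  refine Subtype.ext ?_
  simp only [normalize, scale, h, Pi.smul_apply, smul_eq_mul, ← Finset.mul_sum, smul_smul]
  congr 1
  field_simp

theorem mk_normalize (ξ : F.obj (op n)) (v : Orth n) : Fan.P.mk ξ (normalize v) = Fan.P.mk ξ v :=
  (mk_smul ξ v (normalize v) _ (inv_pos.2 (sum_pos' v)) rfl).symm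

theorem isClosed_mk_image_normalize (hF : Fan.IsQuasiSeparated F) (ξ : F.obj (op n))
    (K : Set (Fin n.dim → ℝ)) (hK : IsClosed K) :
    IsClosed (Fan.P.mk ξ '' {w : Orth n | (normalize w).1 ∈ K}) :=
  isClosed_mk_image hF ξ _ (hK.preimage continuous_normalize) fun v w hv c hc h => by
    show (normalize w).1 ∈ K
    rw [normalize_scale v w c hc h]
    exact hv

theorem isClosed_point (hF : Fan.IsQuasiSeparated F) (x : Fan.P F) : IsClosed ({x} : Set (Fan.P F)) := by
  obtain ⟨n, ξ, v, rfl⟩ := exists_mk x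
  convert isClosed_mk_image_normalize hF ξ {(normalize v).1} isClosed_singleton using 1
  ext y
  constructor
  · rintro rfl
    exact ⟨v, rfl, rfl⟩
  · rintro ⟨w, hw, rfl⟩
    show Fan.P.mk ξ w = Fan.P.mk ξ v
    rw [← mk_normalize ξ w, ← mk_normalize ξ v]
    exact congrArg _ (Subtype.ext hw)

theorem exists_subseq (hF : Fan.IsQuasiSeparated F) (x : ℕ → Fan.P F) (x₀ : Fan.P F)
    (hx : Tendsto x atTop (nhds x₀)) :
    ∃ (n : ICone) (σ : F.obj (op n)) (r : ℕ → ℕ) (v : ℕ → Orth n) (v₀ : Orth n), StrictMono r ∧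
      (∀ j, Fan.P.mk σ (v j) = x (r j)) ∧ Fan.P.mk σ v₀ = x₀ ∧ Tendsto v atTop (nhds v₀) := by
  haveI : T1Space (Fan.P F) := ⟨isClosed_point hF⟩
  by_cases hinf : ∃ᶠ j in atTop, x j = x₀
  · obtain ⟨r, hr, hr'⟩ := extraction_of_frequently_atTop hinf
    obtain ⟨n, σ, v, rfl⟩ := exists_mk x₀
    exact ⟨n, σ, r, fun _ => v, v, hr, fun j => (hr' j).symm, rfl, tendsto_const_nhds⟩
  obtain ⟨J, hJ⟩ := eventually_atTop.1 (not_frequently.1 hinf)
  have hex : ∃ (n : ICone) (σ : F.obj (op n)), ∃ᶠ j in atTop, x j ∈ Fan.P.cell σ := by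
    by_contra hno
    have hA : IsClosed (x '' Set.Ici J) := by
      refine (coherent hF _).2 fun n σ => ?_
      have hev : ∀ᶠ j in atTop, x j ∉ Fan.P.cell σ := not_frequently.1 fun h => hno ⟨n, σ, h⟩
      obtain ⟨M, hM⟩ := eventually_atTop.1 hev
      refine ((Set.finite_Iio M).image x).subset ?_ |>.isClosed
      rintro y ⟨⟨j, -, rfl⟩, hy⟩
      exact ⟨j, lt_of_not_ge fun h => hM j h hy, rfl⟩
    obtain ⟨j, hj, hj'⟩ := hA.mem_of_tendsto hx (eventually_atTop.2 ⟨J, fun j hj => ⟨j, hj, rfl⟩⟩)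
    exact hJ j hj hj'
  obtain ⟨n, σ, hσ⟩ := hex
  obtain ⟨r, hr, hr'⟩ := extraction_of_frequently_atTop hσ
  choose v hv using hr'
  obtain ⟨a, ha, q, hq, hlim⟩ := (isCompact_stdSimplex ℝ (Fin n.dim)).tendsto_subseq
    (x := fun j => (normalize (v j)).1) fun j => normalize_mem (v j)
  have ha0 : a ≠ 0 := by
    rintro rfl
    simpa using ha.2
  let v₀ : Orth n := ⟨a, ha.1, ha0⟩
  refine ⟨n, σ, r ∘ q, fun j => normalize (v (q j)), v₀, hr.comp hq,
    fun j => by rw [mk_normalize]; exact hv (q j), ?_, tendsto_subtype_rng.2 hlim⟩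
  let T : ℕ → Fin n.dim → ℝ := fun j => (normalize (v (q (j + J)))).1
  have hT : Tendsto T atTop (nhds a) := hlim.comp (tendsto_add_atTop_nat J)
  have hK : IsClosed (insert a (Set.range T)) := hT.isCompact_insert_range.isClosed
  have hmem : x₀ ∈ Fan.P.mk σ '' {w : Orth n | (normalize w).1 ∈ insert a (Set.range T)} := by
    refine (isClosed_mk_image_normalize hF σ _ hK).mem_of_tendsto
      (hx.comp (hr.comp hq).tendsto_atTop) (eventually_atTop.2 ⟨J, fun j hj => ⟨v (q j), ?_, hv (q j)⟩⟩)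
    exact Set.mem_insert_of_mem _ ⟨j - J, by simp only [T, Nat.sub_add_cancel hj]⟩
  obtain ⟨w, hw, rfl⟩ := hmem
  rcases Set.mem_insert_iff.1 hw with hw | ⟨j, hj⟩
  · rw [← mk_normalize σ w]
    exact congrArg _ (Subtype.ext hw.symm)
  · refine absurd ?_ (hJ (r (q (j + J))) ?_)
    · rw [← hv, ← mk_normalize σ w, ← mk_normalize σ (v (q (j + J)))]
      exact congrArg _ (Subtype.ext hj)
    · exact le_trans (Nat.le_add_left J j) ((hr.comp hq).id_le (j + J))

theorem injective_of_rational (ψ : F ⟶ G) (hF : Fan.IsQuasiSeparated F)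
    (h : ∀ x y : Fan.P F, x.IsRational → y.IsRational → Fan.P.map ψ x = Fan.P.map ψ y → x = y) :
    Function.Injective (Fan.P.map ψ) := by
  intro x x' hxx
  obtain ⟨n, ξ, v, rfl⟩ := exists_mk x
  obtain ⟨n', ξ', v', rfl⟩ := exists_mk x'
  obtain ⟨k, φ₁, φ₂, y, c₁, c₂, e, h₁, h₂, e₁, e₂⟩ := exists_common hxx
  rw [← mk_glue φ₁ ξ y v c₁ h₁ e₁, ← mk_glue φ₂ ξ' y v' c₂ h₂ e₂]
  obtain ⟨s, -, hs⟩ := exists_pairs hF (F.map φ₁.op ξ) (F.map φ₂.op ξ')
  let E : Set (Orth k) := {y | Fan.P.mk (F.map φ₁.op ξ) y = Fan.P.mk (F.map φ₂.op ξ') y}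
  have hE : IsClosed E := by
    have hE' : E = ⋃ e ∈ s, {v : Orth k | ∃ z ∈ {z : Orth e.1 |
        (∑ i, e.2.1.realMap z.1 i) • e.2.2.realMap z.1 = (∑ i, e.2.2.realMap z.1 i) • e.2.1.realMap z.1},
        v.1 = e.2.1.realMap z.1} := by
      ext v
      simp only [E, Set.mem_setOf_eq, Set.mem_iUnion, exists_prop]
      constructor
      · intro hv
        obtain ⟨e, he, z, c, c', hc, hc', h1, h2⟩ := (hs v v).1 hv
        refine ⟨e, he, scale c hc z, ?_, by simp only [scale, realMap_smul]; exact h1⟩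
        have h3 : e.2.2.realMap z.1 = (c / c') • e.2.1.realMap z.1 := by
          apply smul_right_injective _ hc'.ne'
          simp only [smul_smul, mul_div_cancel₀ _ hc'.ne']
          rw [← h2, h1]
        simp only [scale, realMap_smul, h3, smul_smul, Pi.smul_apply, smul_eq_mul, ← Finset.mul_sum]
        congr 1
        ring
      · rintro ⟨e, he, z, hz, hv⟩
        have p₁ := sum_pos' (push e.2.1 z)
        have p₂ := sum_pos' (push e.2.2 z)
        simp only [push] at p₁ p₂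
        refine (hs v v).2 ⟨e, he, z, 1, (∑ i, e.2.1.realMap z.1 i) / (∑ i, e.2.2.realMap z.1 i), one_pos,
          div_pos p₁ p₂, by rw [one_smul]; exact hv, ?_⟩
        rw [hv, div_eq_inv_mul, mul_smul, hz, smul_smul, inv_mul_cancel₀ p₂.ne', one_smul]
    rw [hE']
    refine isClosed_biUnion_finset fun e _ => isClosed_image_push e.2.1 _ (isClosed_eq ?_ ?_) <;>
      exact (continuous_finsetSum _ fun i _ => (continuous_apply i).comp
        ((continuous_realMap _).comp continuous_subtype_val)).smul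
        ((continuous_realMap _).comp continuous_subtype_val)
  refine (mem_of_rational hE ?_ ?_ y : y ∈ E)
  · intro a b c ha hc hab
    show Fan.P.mk (F.map φ₁.op ξ) b = Fan.P.mk (F.map φ₂.op ξ') b
    rw [← mk_smul (F.map φ₁.op ξ) a b c hc hab, ← mk_smul (F.map φ₂.op ξ') a b c hc hab]
    exact ha
  · intro w u hu hu0 hw
    refine h _ _ (fromInt_mem _ u hu hu0 w hw) (fromInt_mem _ u hu hu0 w hw) ?_
    rw [map_mk, map_mk, naturality_op, naturality_op, e]

end Groth.Agent.FanLib
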