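import Groth.Prelude.Def_W4c6instabfans3FanCvx
import Groth.Agent.FanLib.Sep

/-!
Maxima of quasi-concave functions on convex subsets of realizations of fans.
-/

set_option autoImplicit false
set_option backward.isDefEq.respectTransparency false
universe u v
open CategoryTheory Opposite Instab Instab.Fan Filter Topology

namespace Groth.Agent.FanLib

variable {n : ICone} {F : Fan.{u}} {Γ : Type v} [LinearOrder Γ]

theorem exists_cell_subset {U : Set (Fan.P F)} (hU : Fan.IsRealizable U) {y : Fan.P F} (hy : y ∈ U) :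
    ∃ (n : ICone) (ξ : F.obj (op n)) (v : Orth n), Fan.P.mk ξ v = y ∧ ∀ w, Fan.P.mk ξ w ∈ U := by
  obtain ⟨S, rfl⟩ := hU
  obtain ⟨a, rfl⟩ := hy
  obtain ⟨n, ⟨ξ, hξ⟩, v, rfl⟩ := exists_mk a
  exact ⟨n, ξ, v, rfl, fun w => ⟨Fan.P.mk (F := S.toFunctor) ⟨ξ, hξ⟩ w, rfl⟩⟩

theorem exists_rational {U : Set (Fan.P F)} (hU : Fan.IsRealizable U) {O : Set U} (hO : IsOpen O) {y : U}
    (hy : y ∈ O) : ∃ y' ∈ O, (y' : Fan.P F).IsRational := by
  obtain ⟨n, ξ, v, hv, hw⟩ := exists_cell_subset hU y.2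
  by_contra hno
  push Not at hno
  have : v ∈ {w : Orth n | (⟨Fan.P.mk ξ w, hw w⟩ : U) ∈ Oᶜ} := by
    refine mem_of_rational (hO.isClosed_compl.preimage ((continuous_mk ξ).subtype_mk hw)) ?_ ?_ v
    · intro a b c ha hc hab
      show (⟨Fan.P.mk ξ b, hw b⟩ : U) ∈ Oᶜ
      simp only [← mk_smul ξ a b c hc hab]
      exact ha
    · exact fun w u hu hu0 he hmem => hno _ hmem (fromInt_mem ξ u hu hu0 w he)
  exact this (by rwa [show (⟨Fan.P.mk ξ v, hw v⟩ : U) = y from Subtype.ext hv])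

/-- the segment in the rational 1-simplex -/
def seg (t : unitInterval) : Orth Fan.two :=
  ⟨fun i => (1 - (t : ℝ)) * (Orth.basis Fan.two 0).1 i + (t : ℝ) * (Orth.basis Fan.two 1).1 i, fun i =>
    add_nonneg (mul_nonneg (sub_nonneg.2 t.2.2) ((Orth.basis Fan.two 0).2.1 i))
      (mul_nonneg t.2.1 ((Orth.basis Fan.two 1).2.1 i)), fun h => by
    have h0 := congrFun h 0
    have h1 := congrFun h 1
    simp [Orth.basis] at h0 h1
    simp [h1] at h0⟩

theorem continuous_seg : Continuous seg :=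
  Continuous.subtype_mk (continuous_pi fun i => by fun_prop) _

theorem seg_zero : seg 0 = Orth.basis Fan.two 0 :=
  Subtype.ext (funext fun i => by simp [seg])

theorem seg_one : seg 1 = Orth.basis Fan.two 1 :=
  Subtype.ext (funext fun i => by simp [seg])

theorem seg_eq (t : unitInterval) :
    (seg t).1 = (1 - (t : ℝ)) • (Orth.basis Fan.two 0).1 + (t : ℝ) • (Orth.basis Fan.two 1).1 :=
  rfl

theorem not_proportional : ¬ ∃ c : ℝ, (Orth.basis Fan.two 1).1 = c • (Orth.basis Fan.two 0).1 := by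
  rintro ⟨c, h⟩
  have := congrFun h 1
  simp [Orth.basis] at this

theorem exists_segment {U : Set (Fan.P F)} (hU : Fan.IsConvex U) {x y : U} (hx : (x : Fan.P F).IsRational)
    (hy : (y : Fan.P F).IsRational) (hxy : x ≠ y) :
    ∃ γ : unitInterval → U, Continuous γ ∧ γ 0 = x ∧ γ 1 = y ∧
      (∀ Φ : U → Γ, Fan.IsQuasiConcaveOn U Φ → Φ x < Φ y → ∀ t : unitInterval, 0 < (t : ℝ) → (t : ℝ) < 1 → Φ x < Φ (γ t)) ∧
      (∀ Φ : U → Γ, Fan.IsStrictQuasiConcaveOn U Φ →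
        ∀ t : unitInterval, 0 < (t : ℝ) → (t : ℝ) < 1 → min (Φ x) (Φ y) < Φ (γ t)) := by
  obtain ⟨τ, hτ, h0, h1⟩ := hU.2.2 _ _ x.2 y.2 hx hy (fun h => hxy (Subtype.ext h))
  refine ⟨fun t => ⟨Fan.P.mk τ (seg t), hτ ⟨_, rfl⟩⟩, ((continuous_mk τ).comp continuous_seg).subtype_mk _,
    Subtype.ext (by simp only [seg_zero, h0]), Subtype.ext (by simp only [seg_one, h1]), ?_, ?_⟩
  · intro Φ hΦ hlt t ht ht'
    obtain ⟨h, h'⟩ := hΦ Fan.two τ (Orth.basis Fan.two 0) (seg t) (Orth.basis Fan.two 1) (hτ ⟨_, rfl⟩)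
      (hτ ⟨_, rfl⟩) (hτ ⟨_, rfl⟩) not_proportional ⟨1 - (t : ℝ), t, by linarith, ht, seg_eq t⟩
    rw [show (⟨_, hτ ⟨Orth.basis Fan.two 0, rfl⟩⟩ : U) = x from Subtype.ext h0,
      show (⟨_, hτ ⟨Orth.basis Fan.two 1, rfl⟩⟩ : U) = y from Subtype.ext h1, min_eq_left hlt.le] at h h'
    exact lt_of_le_of_ne h fun e => hlt.ne (h' e.symm)
  · intro Φ hΦ t ht ht'
    have h := hΦ Fan.two τ (Orth.basis Fan.two 0) (seg t) (Orth.basis Fan.two 1) (hτ ⟨_, rfl⟩)
      (hτ ⟨_, rfl⟩) (hτ ⟨_, rfl⟩) not_proportional ⟨1 - (t : ℝ), t, by linarith, ht, seg_eq t⟩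
    rwa [show (⟨_, hτ ⟨Orth.basis Fan.two 0, rfl⟩⟩ : U) = x from Subtype.ext h0,
      show (⟨_, hτ ⟨Orth.basis Fan.two 1, rfl⟩⟩ : U) = y from Subtype.ext h1] at h

/-- the parameter `1/(m+2)` -/
noncomputable def par (m : ℕ) : unitInterval :=
  ⟨1 / ((m : ℝ) + 2), by positivity, by
    rw [div_le_one (by positivity)]
    linarith [(Nat.cast_nonneg m : (0 : ℝ) ≤ m)]⟩

theorem par_pos (m : ℕ) : 0 < (par m : ℝ) := by
  simp only [par]; positivity

theorem par_lt_one (m : ℕ) : (par m : ℝ) < 1 := by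
  simp only [par]
  rw [div_lt_one (by positivity)]
  linarith [(Nat.cast_nonneg m : (0 : ℝ) ≤ m)]

theorem tendsto_par : Tendsto par atTop (𝓝 0) := by
  rw [tendsto_subtype_rng]
  exact squeeze_zero (fun m => (par_pos m).le) (fun m => by
    simp only [par]
    exact one_div_le_one_div_of_le (by positivity) (by linarith)) tendsto_one_div_add_atTop_nhds_zero_nat

theorem max_of_quasiConcave {U : Set (Fan.P F)} (hU : Fan.IsConvex U) (Φ : U → Γ)
    (hΦ : Fan.IsQuasiConcaveOn U Φ) (hlsc : ∀ c : Γ, IsClosed {x : U | Φ x ≤ c}) (x : U)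
    (hx : (x : Fan.P F).IsRational) (hmax : IsLocalMax Φ x) (y : U) : Φ y ≤ Φ x := by
  by_contra h
  obtain ⟨y', hy', hr⟩ := exists_rational hU.2.1 (O := {z : U | Φ z ≤ Φ x}ᶜ) (hlsc _).isOpen_compl (y := y) h
  have hlt : Φ x < Φ y' := not_le.1 hy'
  obtain ⟨γ, hγ, h0, -, hg, -⟩ := exists_segment (Γ := Γ) hU hx hr (fun e => hlt.ne (congrArg Φ e))
  have ht : Tendsto (fun m => γ (par m)) atTop (𝓝 x) := h0 ▸ (hγ.tendsto 0).comp tendsto_par
  obtain ⟨m, hm⟩ := (ht.eventually hmax).exists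
  exact (hg Φ hΦ hlt (par m) (par_pos m) (par_lt_one m)).not_ge hm

theorem unique_of_strict {U : Set (Fan.P F)} (hU : Fan.IsConvex U) (Φ : U → Γ)
    (hΦ : Fan.IsQuasiConcaveOn U Φ) (hlsc : ∀ c : Γ, IsClosed {x : U | Φ x ≤ c})
    (hs : Fan.IsStrictQuasiConcaveOn U Φ) (x y : U) (hx : (x : Fan.P F).IsRational)
    (hy : (y : Fan.P F).IsRational) (hmx : IsLocalMax Φ x) (hmy : IsLocalMax Φ y) : x = y := by
  by_contra hne
  obtain ⟨γ, -, -, -, -, hg⟩ := exists_segment (Γ := Γ) hU hx hy hne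
  have h := hg Φ hs (par 0) (par_pos 0) (par_lt_one 0)
  rw [le_antisymm (max_of_quasiConcave hU Φ hΦ hlsc y hy hmy x) (max_of_quasiConcave hU Φ hΦ hlsc x hx hmx y),
    min_self] at h
  exact h.not_ge (max_of_quasiConcave hU Φ hΦ hlsc y hy hmy _)

theorem finite_of_forall_isClosed {X : Type*} [TopologicalSpace X] {M : Set X} (hM : IsCompact M)
    (h : ∀ A ⊆ M, IsClosed A) : M.Finite := by
  obtain ⟨t, ht⟩ := hM.elim_finite_subcover (fun a : X => (M \ {a})ᶜ)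
    (fun a => (h _ Set.sdiff_subset).isOpen_compl) fun a ha => Set.mem_iUnion.2 ⟨a, fun h => h.2 rfl⟩
  refine t.finite_toSet.subset fun a ha => ?_
  obtain ⟨b, hb, hab⟩ := Set.mem_iUnion₂.1 (ht ha)
  rw [show a = b from by_contra fun hne => hab ⟨ha, hne⟩]
  exact hb

/-- a point of the simplex -/
def ofSimplex (p : stdSimplex ℝ (Fin n.dim)) : Orth n :=
  ⟨p.1, p.2.1, fun h => by simpa [h] using p.2.2⟩

theorem continuous_ofSimplex : Continuous (ofSimplex : stdSimplex ℝ (Fin n.dim) → Orth n) :=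
  Continuous.subtype_mk continuous_subtype_val _

theorem finite_max_inter_cell {U : Set (Fan.P F)} (hU : Fan.IsLocallyConvex U) (Φ : U → Γ)
    (hs : Fan.IsStrictQuasiConcaveOn U Φ) (c : Γ) {O : Set (Fan.P F)} (hO : IsOpen O)
    (hle : ∀ (z : Fan.P F) (hz : z ∈ U), z ∈ O → Φ ⟨z, hz⟩ ≤ c) {M : Set (Fan.P F)} (hMc : IsClosed M)
    (hMO : M ⊆ O) (hMU : M ⊆ U) (hM : ∀ (z : Fan.P F) (hz : z ∈ M), Φ ⟨z, hMU hz⟩ = c)
    (ξ : F.obj (op n)) : (M ∩ Fan.P.cell ξ).Finite := by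
  haveI : CompactSpace (stdSimplex ℝ (Fin n.dim)) := isCompact_iff_compactSpace.1 (isCompact_stdSimplex ℝ _)
  let f : stdSimplex ℝ (Fin n.dim) → Fan.P F := fun p => Fan.P.mk ξ (ofSimplex p)
  have hf : Continuous f := (continuous_mk ξ).comp continuous_ofSimplex
  have hfin : (f ⁻¹' M).Finite := by
    by_contra hinf
    obtain ⟨a, ha⟩ := Set.Infinite.exists_accPt_principal hinf
    have haM : f a ∈ M := (hMc.preimage hf).closure_subset (mem_closure_iff_clusterPt.2 ha.clusterPt)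
    let mid : stdSimplex ℝ (Fin n.dim) → stdSimplex ℝ (Fin n.dim) := fun p =>
      ⟨(1 / 2 : ℝ) • p.1 + (1 / 2 : ℝ) • a.1,
        (convex_stdSimplex ℝ _) p.2 a.2 (by norm_num) (by norm_num) (by norm_num)⟩
    have hmid : Continuous mid :=
      Continuous.subtype_mk (by fun_prop) _
    have hma : mid a = a := Subtype.ext (by
      simp only [mid]; rw [← add_smul]; norm_num)
    have hnhds : mid ⁻¹' (f ⁻¹' O) ∈ 𝓝 a :=
      ((hO.preimage hf).preimage hmid).mem_nhds (by simp only [Set.mem_preimage, hma]; exact hMO haM)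
    obtain ⟨p, ⟨hpO, hpM⟩, hpa⟩ := accPt_iff_nhds.1 ha _ hnhds
    have hcomb : ∃ s t : ℝ, 0 < s ∧ 0 < t ∧
        (ofSimplex (mid p)).1 = s • (ofSimplex p).1 + t • (ofSimplex a).1 :=
      ⟨1 / 2, 1 / 2, by norm_num, by norm_num, rfl⟩
    have hmU : f (mid p) ∈ U := hU n ξ _ _ _ (hMU hpM) (hMU haM) hcomb
    have hlt := hs n ξ (ofSimplex p) (ofSimplex (mid p)) (ofSimplex a) (hMU hpM) hmU (hMU haM) ?_ hcomb
    · rw [hM _ hpM, hM _ haM, min_self] at hlt
      exact hlt.not_ge (hle _ hmU hpO)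
    · rintro ⟨r, hr⟩
      have hr1 : r = 1 := by
        have h2 : ∑ i, a.1 i = ∑ i, r * p.1 i :=
          Finset.sum_congr rfl fun i _ => congrFun hr i
        rw [← Finset.mul_sum, a.2.2, p.2.2, mul_one] at h2
        exact h2.symm
      exact hpa (Subtype.ext ((one_smul ℝ p.1).symm.trans (hr1 ▸ hr).symm))
  refine (hfin.image f).subset ?_
  rintro _ ⟨hz, w, rfl⟩
  exact ⟨⟨(normalize w).1, normalize_mem w⟩, by
    show Fan.P.mk ξ (normalize w) ∈ M
    rwa [mk_normalize], mk_normalize ξ w⟩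

theorem exists_strict_nhd (hF : Fan.IsQuasiSeparated F) [T2Space (Fan.P F)] {U : Set (Fan.P F)}
    [CompactSpace U] (hU : Fan.IsLocallyConvex U) [TopologicalSpace Γ] [OrderTopology Γ] (Φ : U → Γ)
    (hΦc : Continuous Φ) (hs : Fan.IsStrictQuasiConcaveOn U Φ) (x y : U) (hxy : x ≠ y) (hx : IsLocalMax Φ x) :
    ∃ W : Set U, IsClosed W ∧ W ∈ 𝓝 x ∧ y ∉ W ∧ ∀ z ∈ W, z ≠ x → Φ z < Φ x := by
  obtain ⟨O₀, hO₀, hO₀o, hxO₀⟩ := mem_nhds_iff.1 hx
  obtain ⟨O, hO, rfl⟩ := isOpen_induced_iff.1 hO₀o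
  obtain ⟨W, hW, hWc, hWO⟩ := exists_mem_nhds_isClosed_subset (X := U)
    (Filter.inter_mem ((hO.preimage continuous_subtype_val).mem_nhds hxO₀)
      (isOpen_ne.mem_nhds hxy : {z : U | z ≠ y} ∈ 𝓝 x))
  let M : Set U := W ∩ {z | Φ z = Φ x}
  have hMc : IsClosed M := hWc.inter (isClosed_eq hΦc continuous_const)
  have hM' : IsCompact (Subtype.val '' M) := hMc.isCompact.image continuous_subtype_val
  have hMU : Subtype.val '' M ⊆ U := by rintro _ ⟨z, -, rfl⟩; exact z.2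
  have hfin : (Subtype.val '' M).Finite := by
    refine finite_of_forall_isClosed hM' fun A hA => (coherent hF A).2 fun n ξ => ?_
    refine ((finite_max_inter_cell hU Φ hs (Φ x) hO (fun z hz hzO => hO₀ (show (⟨z, hz⟩ : U) ∈ Subtype.val ⁻¹' O from hzO)) hM'.isClosed
      ?_ hMU ?_ ξ).subset (Set.inter_subset_inter_left _ hA)).isClosed
    · rintro _ ⟨z, hz, rfl⟩
      exact (hWO hz.1).1
    · rintro _ ⟨z, hz, rfl⟩
      exact hz.2
  have hfin' : M.Finite := hfin.of_finite_image Subtype.val_injective.injOn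
  obtain ⟨W', hW', hW'c, hW'M⟩ := exists_mem_nhds_isClosed_subset (X := U)
    (Filter.inter_mem hW ((hfin'.subset Set.sdiff_subset : (M \ {x}).Finite).isClosed.isOpen_compl.mem_nhds
      (fun h => h.2 rfl)))
  refine ⟨W', hW'c, hW', fun h => (hWO (hW'M h).1).2 rfl, fun z hz hzx => ?_⟩
  refine lt_of_le_of_ne (hO₀ (hWO (hW'M hz).1).1) fun he => (hW'M hz).2 ⟨⟨(hW'M hz).1, he⟩, hzx⟩

theorem localMax_unique (hF : Fan.IsQuasiSeparated F) [T2Space (Fan.P F)] {U : Set (Fan.P F)}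
    [CompactSpace U] (hU : Fan.IsConvex U) [TopologicalSpace Γ] [OrderTopology Γ] (Φ : U → Γ)
    (hΦc : Continuous Φ) (hs : Fan.IsStrictQuasiConcaveOn U Φ) (x y : U) (hx : IsLocalMax Φ x)
    (hy : IsLocalMax Φ y) : x = y := by
  by_contra hne
  wlog hle : Φ x ≤ Φ y generalizing x y
  · exact this y x hy hx (Ne.symm hne) (le_of_not_ge hle)
  obtain ⟨W, hWc, hW, hyW, hlt⟩ := exists_strict_nhd hF hU.1 Φ hΦc hs x y hne hx
  let Fr : Set U := W \ interior W
  have hFr : IsCompact Fr := (hWc.inter isOpen_interior.isClosed_compl).isCompact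
  let B : Set U := {w | ∀ z ∈ Fr, Φ z < Φ w}
  have hxi : x ∈ interior W := mem_interior_iff_mem_nhds.2 hW
  have hxB : x ∈ B := fun z hz => hlt z hz.1 fun e => hz.2 (e ▸ hxi)
  have hBo : IsOpen B := by
    rcases Fr.eq_empty_or_nonempty with he | hne'
    · simp [B, he]
    · obtain ⟨z₀, hz₀, hmax⟩ := hFr.exists_isMaxOn hne' hΦc.continuousOn
      convert isOpen_lt (continuous_const : Continuous fun _ : U => Φ z₀) hΦc using 1
      ext w
      exact ⟨fun h => h z₀ hz₀, fun h z hz => lt_of_le_of_lt (hmax hz) h⟩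
  obtain ⟨x', ⟨hx'i, hx'B⟩, hx'r⟩ := exists_rational hU.2.1 (isOpen_interior.inter hBo) (y := x) ⟨hxi, hxB⟩
  obtain ⟨y', ⟨hy'W, hy'B⟩, hy'r⟩ := exists_rational hU.2.1 (hWc.isOpen_compl.inter hBo) (y := y)
    ⟨hyW, fun z hz => lt_of_lt_of_le (hxB z hz) hle⟩
  obtain ⟨γ, hγ, h0, h1, -, hg⟩ := exists_segment (Γ := Γ) hU hx'r hy'r
    (fun e => hy'W (e ▸ interior_subset hx'i))
  by_cases hcov : Set.univ ⊆ γ ⁻¹' interior W ∪ γ ⁻¹' Wᶜ
  · obtain ⟨t, -, ht1, ht2⟩ := isPreconnected_univ (α := unitInterval) (γ ⁻¹' interior W) (γ ⁻¹' Wᶜ)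
      (isOpen_interior.preimage hγ) (hWc.isOpen_compl.preimage hγ) hcov
      ⟨0, trivial, by simp only [Set.mem_preimage, h0]; exact hx'i⟩
      ⟨1, trivial, by simp only [Set.mem_preimage, h1]; exact hy'W⟩
    exact ht2 (interior_subset ht1)
  · obtain ⟨t, -, ht⟩ := Set.not_subset.1 hcov
    simp only [Set.mem_union, Set.mem_preimage, Set.mem_compl_iff, not_or, not_not] at ht
    have ht0 : 0 < (t : ℝ) := lt_of_le_of_ne t.2.1 fun e => ht.1 (by
      rw [show t = 0 from Subtype.ext e.symm, h0]; exact hx'i)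
    have ht1 : (t : ℝ) < 1 := lt_of_le_of_ne t.2.2 fun e => by
      have := ht.2
      rw [show t = 1 from Subtype.ext e, h1] at this
      exact hy'W this
    have h := hg Φ hs t ht0 ht1
    have hm := lt_min (hx'B (γ t) ⟨ht.2, ht.1⟩) (hy'B (γ t) ⟨ht.2, ht.1⟩)
    exact (lt_trans hm h).false

end Groth.Agent.FanLib
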