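import Groth.Prelude.Def_W4c6instabfans3FanCvx
import Groth.Agent.FanLib.Max

/-!
The fan of a finite family of rational cones embeds into the space of rays.
-/

set_option autoImplicit false
set_option backward.isDefEq.respectTransparency false
open CategoryTheory Opposite Instab Instab.Fan Topology

namespace Groth.Agent.FanLib

variable {N : ℕ} {ι : Type} {K : ι → Set (Fin N → ℝ)} {k n : ICone}

theorem vec_eq_zero {M : ℕ} (φ : (Fin M → ℤ) →ₗ[ℤ] (Fin N → ℤ)) (hφ : Function.Injective φ) (v : Fin M → ℝ)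
    (h : ∀ j, ∑ i, (φ (Pi.single i 1) j : ℝ) * v i = 0) : v = 0 := by
  classical
  obtain ⟨d, r₀, q, hq, hrel⟩ := exists_rat_coords v
  have hzero : ∀ (l : Fin d), (fun i => q i l) = (0 : Fin M → ℚ) := by
    intro l
    have hk : ∀ j, ∑ i, (φ (Pi.single i 1) j : ℚ) * q i l = 0 := fun j =>
      hrel _ (by simpa using h j) l
    let D : ℕ := ∏ i, (q i l).den
    have hD : 0 < D := Finset.prod_pos fun i _ => (q i l).den_pos
    let u : Fin M → ℤ := fun i => (q i l).num * ((D / (q i l).den : ℕ) : ℤ)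
    have hu : ∀ i, (u i : ℚ) = D * q i l := fun i => by
      have hd : (q i l).den ∣ D := Finset.dvd_prod_of_mem (fun i => (q i l).den) (Finset.mem_univ i)
      simp only [u, Int.cast_mul, Int.cast_natCast]
      rw [Nat.cast_div hd (by exact_mod_cast (q i l).den_pos.ne')]
      conv_rhs => rw [← Rat.num_div_den (q i l)]
      ring
    have hAu : φ u = 0 := funext fun j => by
      apply Int.cast_injective (α := ℚ)
      rw [apply_eq_sum]
      push_cast
      simp only [hu, mul_assoc, ← Finset.mul_sum]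
      rw [show ∑ i, q i l * (φ (Pi.single i 1) j : ℚ) = 0 by
        rw [← hk j]; exact Finset.sum_congr rfl fun i _ => mul_comm _ _]
      simp
    have hu0 : u = 0 := hφ (hAu.trans (map_zero _).symm)
    funext i
    have h2 := hu i
    rw [hu0] at h2
    rcases mul_eq_zero.1 (by simpa using h2.symm : (D : ℚ) * q i l = 0) with h' | h'
    · exact absurd h' (by exact_mod_cast hD.ne')
    · exact h'
  funext i
  rw [hq i]
  exact Finset.sum_eq_zero fun l _ => by simp [show q i l = 0 from congrFun (hzero l) i]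

theorem toVec_ne_zero (φ : RFan.Cone K n) (v : Orth n) : RFan.toVec K n φ v.1 ≠ 0 := fun h =>
  v.2.2 (vec_eq_zero φ.1 φ.2.1 v.1 (congrFun h))

theorem toVec_smul (φ : RFan.Cone K n) (c : ℝ) (v : Fin n.dim → ℝ) :
    RFan.toVec K n φ (c • v) = c • RFan.toVec K n φ v := by
  funext j
  simp only [RFan.toVec, Pi.smul_apply, smul_eq_mul, Finset.mul_sum]
  exact Finset.sum_congr rfl fun i _ => by ring

theorem toVec_map (ψ : k ⟶ n) (φ : RFan.Cone K n) (v : Fin k.dim → ℝ) :
    RFan.toVec K k ((RFan K).map ψ.op φ) v = RFan.toVec K n φ (ψ.realMap v) := by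
  funext j
  change ∑ i, ((φ.1 (ψ.toLin (Pi.single i 1)) j : ℤ) : ℝ) * v i =
    ∑ l, (φ.1 (Pi.single l 1) j : ℝ) * ∑ i, (ψ.toLin (Pi.single i 1) l : ℝ) * v i
  simp only [Finset.mul_sum]
  rw [Finset.sum_comm]
  refine Finset.sum_congr rfl fun i _ => ?_
  rw [apply_eq_sum φ.1 (ψ.toLin (Pi.single i 1)) j]
  push_cast
  rw [Finset.sum_mul]
  exact Finset.sum_congr rfl fun l _ => by ring

/-- the ray of a point of the orthant of a cone -/
def toRay (φ : RFan.Cone K n) (v : Orth n) : Fan.Rays N :=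
  Quot.mk _ ⟨RFan.toVec K n φ v.1, toVec_ne_zero φ v⟩

/-- the map to rays -/
def rayMap (K : ι → Set (Fin N → ℝ)) : Fan.P (RFan K) → Fan.Rays N :=
  Quot.lift (fun p => toRay (n := p.1.1) p.1.2 p.2) (by
    rintro _ _ ⟨ψ, ξ, v, w, c, hc, h⟩
    refine Quot.sound ⟨c, hc, ?_⟩
    show RFan.toVec K _ ξ w.1 = c • RFan.toVec K _ ((RFan K).map ψ.op ξ) v.1
    rw [toVec_map, h, toVec_smul])

theorem rayMap_mk (φ : RFan.Cone K n) (v : Orth n) :
    rayMap K (Fan.P.mk (F := RFan K) φ v) = toRay φ v :=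
  rfl

theorem continuous_toRay (φ : RFan.Cone K n) : Continuous (toRay φ) :=
  continuous_quot_mk.comp (Continuous.subtype_mk
    (continuous_pi fun j => continuous_finsetSum _ fun i _ =>
      continuous_const.mul ((continuous_apply i).comp continuous_subtype_val)) _)

theorem continuous_rayMap : Continuous (rayMap K) :=
  continuous_iff_isClosed.2 fun _ hC => isClosed_P_iff.2 fun _ φ => hC.preimage (continuous_toRay φ)

/-- normalised representative of a ray -/
noncomputable def Rays.unit (r : Fan.Rays N) : Fin N → ℝ :=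
  Quot.lift (fun v => ‖v.1‖⁻¹ • v.1) (by
    rintro v w ⟨c, hc, h⟩
    simp only [h, norm_smul, Real.norm_eq_abs, abs_of_pos hc, smul_smul]
    congr 1
    field_simp) r

theorem ray_eq_iff {v w : {v : Fin N → ℝ // v ≠ 0}} :
    ((Quot.mk _ v : Fan.Rays N) = Quot.mk _ w) ↔ ∃ c : ℝ, 0 < c ∧ w.1 = c • v.1 := by
  refine ⟨fun h => ?_, fun h => Quot.sound h⟩
  have h' : ‖v.1‖⁻¹ • v.1 = ‖w.1‖⁻¹ • w.1 := congrArg Rays.unit h
  have hw : ‖w.1‖ ≠ 0 := norm_ne_zero_iff.2 w.2
  refine ⟨‖w.1‖ * ‖v.1‖⁻¹, mul_pos (norm_pos_iff.2 w.2) (inv_pos.2 (norm_pos_iff.2 v.2)), ?_⟩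
  rw [mul_smul, h', smul_smul, mul_inv_cancel₀ hw, one_smul]

theorem unit_injective : Function.Injective (Rays.unit (N := N)) := by
  intro r s h
  induction r using Quot.ind with
  | mk v =>
    induction s using Quot.ind with
    | mk w =>
      have h' : ‖v.1‖⁻¹ • v.1 = ‖w.1‖⁻¹ • w.1 := h
      have hw : ‖w.1‖ ≠ 0 := norm_ne_zero_iff.2 w.2
      refine ray_eq_iff.2 ⟨‖w.1‖ * ‖v.1‖⁻¹, mul_pos (norm_pos_iff.2 w.2) (inv_pos.2 (norm_pos_iff.2 v.2)), ?_⟩
      rw [mul_smul, h', smul_smul, mul_inv_cancel₀ hw, one_smul]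

theorem continuous_unit : Continuous (Rays.unit (N := N)) :=
  continuous_quot_lift _ ((continuous_subtype_val.norm.inv₀ fun v => norm_ne_zero_iff.2 v.2).smul
    continuous_subtype_val)

instance : T2Space (Fan.Rays N) := T2Space.of_injective_continuous unit_injective continuous_unit

theorem rayMap_injective : Function.Injective (rayMap K) := by
  intro p q h
  obtain ⟨n, φ, v, rfl⟩ := exists_mk p
  obtain ⟨n', ψ, w, rfl⟩ := exists_mk q
  obtain ⟨c, hc, hw⟩ := ray_eq_iff.1 h
  change RFan.toVec K n' ψ w.1 = c • RFan.toVec K n φ v.1 at hw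
  rw [← toVec_smul] at hw
  obtain ⟨m, α, β, z, e, hα, hβ⟩ :=
    exists_fibre_lin φ.1 ψ.1 φ.2.1 ψ.2.1 (scale c hc v) w fun j => (congrFun hw j).symm
  refine (mk_smul φ v (scale c hc v) c hc rfl).trans
    (mk_eq_of_common α β z 1 1 (Subtype.ext e) one_pos one_pos ?_ ?_)
  · rw [one_smul, hα]
  · rw [one_smul, hβ]

theorem isEmbedding_rayMap [Finite ι] (K : ι → Set (Fin N → ℝ))
    (hK : ∀ a, ∃ (m : ℕ) (gen : Fin m → Finset (Fin N → ℤ)),
      K a = Set.iUnion fun l => {x | ∃ c : (Fin N → ℤ) → ℝ, (∀ g, 0 ≤ c g) ∧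
        x = Finset.sum (gen l) fun g => c g • fun j => (g j : ℝ)}) :
    IsEmbedding (rayMap K) ∧
      Set.range (rayMap K) = {r | ∃ w : {w : Fin N → ℝ // w ≠ 0}, r = Quot.mk _ w ∧ w.1 ∈ Set.iUnion K} := by
  classical
  choose m gen hgen using hK
  let J := {p : Σ a, Σ l : Fin (m a), ↥((gen a l).powerset) //
    LinearIndependent ℤ (fun g : p.2.2.1 => (g : Fin N → ℤ)) ∧ 0 < p.2.2.1.card}
  haveI : Finite J := inferInstance
  have hmem : ∀ (j : J) (v : Fin j.1.2.2.1.card → ℝ), (∀ i, 0 ≤ v i) →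
      (fun x => ∑ i, ((j.1.2.2.1.equivFin.symm i : Fin N → ℤ) x : ℝ) * v i) ∈ K j.1.1 := by
    intro j v hv
    rw [hgen j.1.1]
    refine Set.mem_iUnion.2 ⟨j.1.2.1,
      fun g => if h : g ∈ j.1.2.2.1 then v (j.1.2.2.1.equivFin ⟨g, h⟩) else 0, fun g => ?_, ?_⟩
    · by_cases h : g ∈ j.1.2.2.1 <;> simp [h, hv]
    · rw [← Finset.sum_subset (Finset.mem_powerset.1 j.1.2.2.2) (fun g _ hg => by simp [hg]),
        ← Finset.sum_coe_sort, ← j.1.2.2.1.equivFin.symm.sum_comp]
      funext x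
      simp [Finset.sum_apply, mul_comm]
  let nj : J → ICone := fun j => ⟨⟨j.1.2.2.1.card, j.2.2⟩⟩
  let φj : ∀ j : J, RFan.Cone K (nj j) := fun j =>
    ⟨Fintype.linearCombination ℤ fun i => (j.1.2.2.1.equivFin.symm i : Fin N → ℤ),
      (j.2.1.comp _ (Equiv.injective _)).fintypeLinearCombination_injective, j.1.1, fun v hv => by
        convert hmem j (fun i => (v i : ℝ)) (fun i => Int.cast_nonneg (hv i)) using 1
        funext x
        simp only [Fintype.linearCombination_apply, Finset.sum_apply, Pi.smul_apply, smul_eq_mul]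
        push_cast
        exact Finset.sum_congr rfl fun i _ => mul_comm _ _⟩
  have hvec : ∀ (j : J) (v : Fin (nj j).dim → ℝ),
      RFan.toVec K (nj j) (φj j) v = fun x => ∑ i, ((j.1.2.2.1.equivFin.symm i : Fin N → ℤ) x : ℝ) * v i := by
    intro j v
    funext x
    refine Finset.sum_congr rfl fun i _ => ?_
    rw [Fintype.linearCombination_apply_single, one_smul]
  let Tgt : Set (Fan.Rays N) :=
    {r | ∃ w : {w : Fin N → ℝ // w ≠ 0}, r = Quot.mk _ w ∧ w.1 ∈ Set.iUnion K}
  have hTgt : Tgt = ⋃ j, Set.range (fun p : stdSimplex ℝ (Fin (nj j).dim) => toRay (φj j) (ofSimplex p)) := by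
    ext r
    constructor
    · rintro ⟨w, rfl, hw⟩
      obtain ⟨a, ha⟩ := Set.mem_iUnion.1 hw
      rw [hgen a] at ha
      obtain ⟨l, c, hc, hwc⟩ := Set.mem_iUnion.1 ha
      obtain ⟨t, d, ht, hd, he, hl⟩ := exists_independent _ ((gen a l).filter fun g => c g ≠ 0) c le_rfl
        fun g hg => lt_of_le_of_ne (hc g) (Ne.symm (Finset.mem_filter.1 hg).2)
      have hwd : w.1 = ∑ g ∈ t, d g • toR g := by
        rw [he, hwc]
        refine (Finset.sum_subset (Finset.filter_subset _ _) fun g hg hg' => ?_).symm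
        rw [show c g = 0 from by_contra fun h => hg' (Finset.mem_filter.2 ⟨hg, h⟩), zero_smul]
      have htne : 0 < t.card := Finset.card_pos.2 (Finset.nonempty_iff_ne_empty.2 fun h => w.2 (by
        rw [hwd, h, Finset.sum_empty]))
      let j : J := ⟨⟨a, l, t, Finset.mem_powerset.2 (ht.trans (Finset.filter_subset _ _))⟩, hl, htne⟩
      let v : Orth (nj j) := ⟨fun i => d (t.equivFin.symm i), fun i => (hd _ (t.equivFin.symm i).2).le,
        fun h => (hd _ (t.equivFin.symm ⟨0, htne⟩).2).ne' (congrFun h ⟨0, htne⟩)⟩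
      refine Set.mem_iUnion.2 ⟨j, ⟨(normalize v).1, normalize_mem v⟩, ?_⟩
      show toRay (φj j) (normalize v) = _
      rw [← rayMap_mk, mk_normalize, rayMap_mk]
      refine congrArg (Quot.mk _) (Subtype.ext ?_)
      show RFan.toVec K (nj j) (φj j) v.1 = w.1
      rw [hvec, hwd, ← Finset.sum_coe_sort, ← t.equivFin.symm.sum_comp]
      funext x
      simp only [Finset.sum_apply, Pi.smul_apply, smul_eq_mul, toR]
      exact Finset.sum_congr rfl fun i _ => mul_comm _ _
    · intro hr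
      obtain ⟨j, p, rfl⟩ := Set.mem_iUnion.1 hr
      refine ⟨_, rfl, Set.mem_iUnion.2 ⟨j.1.1, ?_⟩⟩
      show RFan.toVec K (nj j) (φj j) (ofSimplex p).1 ∈ K j.1.1
      rw [hvec]
      exact hmem j _ p.2.1
  have hclosed : IsClosed Tgt := by
    rw [hTgt]
    refine (isCompact_iUnion fun j => ?_).isClosed
    haveI : CompactSpace (stdSimplex ℝ (Fin (nj j).dim)) :=
      isCompact_iff_compactSpace.1 (isCompact_stdSimplex ℝ _)
    exact isCompact_range ((continuous_toRay (φj j)).comp continuous_ofSimplex)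
  have hrange : ∀ p, rayMap K p ∈ Tgt := by
    intro p
    obtain ⟨n, φ, v, rfl⟩ := exists_mk p
    refine mem_of_rational (C := toRay φ ⁻¹' Tgt) (hclosed.preimage (continuous_toRay φ)) ?_ ?_ v
    · intro a b c ha hc hab
      show toRay φ b ∈ Tgt
      rw [← rayMap_mk, ← mk_smul (F := RFan K) φ a b c hc hab]
      exact ha
    · intro w u hu hu0 he
      obtain ⟨a, ha⟩ := φ.2.2
      refine ⟨_, rfl, Set.mem_iUnion.2 ⟨a, ?_⟩⟩
      show RFan.toVec K n φ w.1 ∈ K a
      convert ha u hu using 1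
      funext x
      rw [he, apply_eq_sum φ.1 u x]
      push_cast
      exact Finset.sum_congr rfl fun i _ => mul_comm _ _
  have hcover : (Set.univ : Set (Fan.P (RFan K))) =
      ⋃ j, Set.range (fun p : stdSimplex ℝ (Fin (nj j).dim) => Fan.P.mk (F := RFan K) (φj j) (ofSimplex p)) := by
    refine (Set.eq_univ_of_forall fun x => ?_).symm
    obtain ⟨j, p, hp⟩ := Set.mem_iUnion.1 (hTgt ▸ hrange x)
    exact Set.mem_iUnion.2 ⟨j, p, rayMap_injective hp⟩
  haveI : CompactSpace (Fan.P (RFan K)) := ⟨by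
    rw [hcover]
    refine isCompact_iUnion fun j => ?_
    haveI : CompactSpace (stdSimplex ℝ (Fin (nj j).dim)) :=
      isCompact_iff_compactSpace.1 (isCompact_stdSimplex ℝ _)
    exact isCompact_range ((continuous_mk _).comp continuous_ofSimplex)⟩
  refine ⟨(continuous_rayMap.isClosedEmbedding rayMap_injective).isEmbedding,
    Set.Subset.antisymm (by rintro _ ⟨p, rfl⟩; exact hrange p) fun r hr => ?_⟩
  obtain ⟨j, p, hp⟩ := Set.mem_iUnion.1 (hTgt ▸ (show r ∈ Tgt from hr))
  exact ⟨Fan.P.mk (F := RFan K) (φj j) (ofSimplex p), hp⟩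

end Groth.Agent.FanLib
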